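import Groth.Agent.Lib.AlgSpDivExt.Space
import Groth.Agent.S9974
import Mathlib.RingTheory.Flat.TorsionFree

/-!
# Closures of closed subspaces of the generic fibre over a Dedekind domain
-/

set_option autoImplicit false
set_option linter.style.haveILetI false

universe u

open CategoryTheory CategoryTheory.Limits AlgebraicGeometry
open AlgSp Groth.Agent.Lib.AlgSpace Groth.Agent.Lib.AlgSpMor Groth.Agent.Lib.AlgSpMor.SchImage

namespace Groth.Agent.Lib.AlgSpDivExt.Closure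

variable {S : Scheme.{u}}

/-- The inclusion of a base change along a flat quasi-compact monomorphism of schemes. -/
theorem pullback_props {A AK : Over S} (G : AK ⟶ A) [Flat G.left] [QuasiCompact G.left]
    [Mono G.left] {X XK : Sp S} {f : X ⟶ (yon S).obj A} {gK : XK ⟶ X} {fK : XK ⟶ (yon S).obj AK}
    (hXK : IsPullback gK fK f ((yon S).map G)) :
    Mono gK ∧ LocP @Flat gK ∧ RepWith @QuasiCompact gK := by
  haveI : Mono G := (Over.forget S).mono_of_mono_map ‹_›
  refine ⟨MorphismProperty.of_isPullback (P := MorphismProperty.monomorphisms (Sp S)) hXK.flip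
      (inferInstanceAs (Mono ((yon S).map G))), ?_, ?_⟩
  · exact LocP.locP_of_repWith SourceDescent.Scheme.flat
      (repWith_baseChange hXK.flip ((repWith_yon_map_iff (P := @Flat) _).2 ‹_›))
  · exact repWith_baseChange hXK.flip ((repWith_yon_map_iff (P := @QuasiCompact) _).2 ‹_›)

/-- The image of a closed subspace restricts to it. -/
theorem exists_isPullback {X XK D D' : Space S} (gK : XK ⟶ X) [Mono gK.hom]
    (hfl : LocP @Flat gK.hom) (i : D ⟶ XK) (hi : RepWith @IsClosedImmersion i.hom)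
    (hqc : IsQuasiCompactMor (i ≫ gK).hom) (i' : D' ⟶ X) (hi' : IsSchImage (i ≫ gK).hom i'.hom) :
    ∃ m : D ⟶ D', m ≫ i' = i ≫ gK ∧ IsPullback m.hom i.hom i'.hom gK.hom := by
  have sqP := IsPullback.of_hasPullback i'.hom gK.hom
  let P : Space S := ⟨_, isAlgSpace_of_isPullback sqP X.property.diag D'.property XK.property⟩
  let i₁ : P ⟶ D' := ObjectProperty.homMk (pullback.fst i'.hom gK.hom)
  let j : P ⟶ XK := ObjectProperty.homMk (pullback.snd i'.hom gK.hom)
  have sqV : IsPullback (𝟙 D.obj) i.hom (i ≫ gK).hom gK.hom :=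
    IsPullback.of_horiz_isIso_mono ⟨by rw [Category.id_comp]; rfl⟩
  have hiX : IsSchImage i.hom j.hom :=
    Groth.Agent.S9974.result gK hfl (i ≫ gK) hqc i' hi' (𝟙 D) i sqV i₁ j sqP
  obtain ⟨d, hd⟩ := hiX.2.1
  obtain ⟨e, he⟩ := hiX.2.2 i.hom D.property hi ⟨𝟙 _, Category.id_comp _⟩
  haveI : Mono i.hom := AlgSpDiv.mono_of_closed hi
  haveI : Mono j.hom := AlgSpDiv.mono_of_closed hiX.1
  have hde : d ≫ e = 𝟙 _ := by rw [← cancel_mono i.hom, Category.assoc, he, hd, Category.id_comp]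
  have hed : e ≫ d = 𝟙 _ := by rw [← cancel_mono j.hom, Category.assoc, hd, he, Category.id_comp]
  have sq : IsPullback (d ≫ pullback.fst i'.hom gK.hom) i.hom i'.hom gK.hom :=
    sqP.of_iso (⟨e, d, hed, hde⟩) (Iso.refl _) (Iso.refl _) (Iso.refl _)
      (by simp [reassoc_of% hed]) (by simp; exact he.symm) (by simp) (by simp)
  exact ⟨ObjectProperty.homMk (d ≫ pullback.fst i'.hom gK.hom), ObjectProperty.hom_ext _ sq.w, sq⟩

/-- A closed subspace contains another one as soon as it does so on every affine etale chart. -/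
theorem exists_factor {X Z Z' : Sp S} (hX : IsAlgSpace X) {i : Z ⟶ X} (hi : RepWith @IsClosedImmersion i)
    {i' : Z' ⟶ X} (hi' : RepWith @IsClosedImmersion i')
    (h : ∀ (T : Over S) (ξ : (yon S).obj T ⟶ X), IsAffine T.left → RepWith @Etale ξ →
      ∀ I I' : T.left.IdealSheafData, Cut i ξ I → Cut i' ξ I' → I ≤ I') :
    ∃ l, l ≫ i = i' := by
  obtain ⟨ι, O, π, hO, he, hs⟩ := exists_sigma_atlas hX
  obtain ⟨I, hI⟩ := exists_cut hi π
  obtain ⟨I', hI'⟩ := exists_cut hi' π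
  have hle : I ≤ I' := le_of_family (fun j => sigmaOverι O j)
    (fun j => inferInstanceAs (Etale (Sigma.ι (fun i ↦ (O i).left) j)))
    (fun x => by
      obtain ⟨j, y, hy⟩ := (Scheme.Cover.exists_eq (sigmaOpenCover fun i ↦ (O i).left) x)
      exact ⟨j, y, hy⟩)
    fun j => h (O j) _ (hO j)
      (repWith_comp (repWith_etale_yon_map (inferInstanceAs
        (Etale (Sigma.ι (fun i ↦ (O i).left) j)))) he) _ _
      (hI.comap (sigmaOverι O j)) (hI'.comap (sigmaOverι O j))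
  haveI := AlgSpDiv.mono_of_closed hi
  haveI := AlgSpDiv.mono_of_closed hi'
  obtain ⟨fst, sq⟩ := hI'.isPullback
  haveI : Sheaf.IsLocallySurjective fst :=
    isLocallySurjective_of_etale (repWith_baseChange sq.flip he) (repWith_baseChange sq.flip hs)
  obtain ⟨a, ha⟩ := (hI _ (subι I')).2 (hle.trans (le_of_eq (ker_subι I').symm))
  have sqk := IsPullback.of_hasPullback fst fst
  obtain ⟨l, hl⟩ := exists_desc fst sqk a (by
    rw [← cancel_mono i, Category.assoc, Category.assoc, ha, ← sq.w, ← Category.assoc, ← Category.assoc,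
      sqk.w])
  refine ⟨l, ?_⟩
  haveI : Epi fst := inferInstance
  rw [← cancel_epi fst, ← Category.assoc, hl, ha, sq.w]

section Rings

variable {R : Type u} [CommRing R] (K : Type u) [Field K] [Algebra R K]

/-- The image of an ideal of the generic fibre is saturated. -/
theorem saturated_map {T TK : Scheme.{u}} [IsAffine T] [IsAffine TK] [IsDomain R] [IsFractionRing R K]
    (m : T ⟶ Spec (CommRingCat.of R)) {pr : TK ⟶ T} {sn : TK ⟶ Spec (CommRingCat.of K)}
    (w : pr ≫ m = sn ≫ Spec.map (CommRingCat.ofHom (algebraMap R K))) (J : TK.IdealSheafData)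
    (r : R) (hr : r ≠ 0) (x : Γ(T, ⊤))
    (hx : m.appTop ((Scheme.ΓSpecIso (CommRingCat.of R)).inv r) * x ∈
      (J.map pr).ideal ⟨⊤, isAffineOpen_top T⟩) :
    x ∈ (J.map pr).ideal ⟨⊤, isAffineOpen_top T⟩ := by
  have hI : (J.map pr).ideal ⟨⊤, isAffineOpen_top T⟩ =
      (J.ideal ⟨⊤, isAffineOpen_top TK⟩).comap pr.appTop.hom :=
    J.ideal_map pr ⟨⊤, isAffineOpen_top T⟩ (isAffineOpen_top TK)
  rw [hI, Ideal.mem_comap] at hx ⊢
  rw [map_mul] at hx
  have hu : IsUnit (pr.appTop (m.appTop ((Scheme.ΓSpecIso (CommRingCat.of R)).inv r))) := by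
    have e : pr.appTop (m.appTop ((Scheme.ΓSpecIso (CommRingCat.of R)).inv r)) =
        sn.appTop ((Scheme.ΓSpecIso (CommRingCat.of K)).inv (algebraMap R K r)) := by
      have h1 := congrArg (fun g => g.appTop) w
      simp only [Scheme.Hom.comp_appTop] at h1
      refine (congrArg (fun g => g ((Scheme.ΓSpecIso (CommRingCat.of R)).inv r)) h1).trans ?_
      exact congrArg (fun y => sn.appTop y)
        (congrArg (fun g => g r) (Scheme.ΓSpecIso_inv_naturality (CommRingCat.ofHom (algebraMap R K)))).symm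
    rw [e]
    exact ((isUnit_iff_ne_zero.2 fun h => hr (IsFractionRing.injective R K
      (h.trans (map_zero _).symm))).map _).map _
  exact ((J.ideal ⟨⊤, isAffineOpen_top TK⟩).unit_mul_mem_iff_mem hu).1 hx

/-- A closed subscheme of an affine scheme with saturated ideal is flat over a Dedekind domain. -/
theorem flat_of_saturated [IsDedekindDomain R] {W T : Scheme.{u}} [IsAffine T] (c : W ⟶ T)
    [IsClosedImmersion c] (m : T ⟶ Spec (CommRingCat.of R))
    (h : ∀ (r : R) (x : Γ(T, ⊤)), r ≠ 0 →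
      m.appTop ((Scheme.ΓSpecIso (CommRingCat.of R)).inv r) * x ∈ c.ker.ideal ⟨⊤, isAffineOpen_top T⟩ →
        x ∈ c.ker.ideal ⟨⊤, isAffineOpen_top T⟩) :
    Flat (c ≫ m) := by
  haveI : IsAffine W := isAffine_of_isAffineHom c
  rw [HasRingHomProperty.iff_of_isAffine (P := @Flat)]
  let μ : R →+* Γ(W, ⊤) :=
    (c ≫ m).appTop.hom.comp (Scheme.ΓSpecIso (CommRingCat.of R)).inv.hom
  have hker : c.ker.ideal ⟨⊤, isAffineOpen_top T⟩ = RingHom.ker c.appTop.hom :=
    c.ker_apply ⟨⊤, isAffineOpen_top T⟩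
  letI := μ.toAlgebra
  have hflat : Module.Flat R Γ(W, ⊤) := by
    rw [IsDedekindDomain.flat_iff_torsion_eq_bot, eq_bot_iff]
    rintro y ⟨⟨r, hr⟩, hy⟩
    obtain ⟨x, rfl⟩ := c.app_surjective ⊤ (isAffineOpen_top T) y
    refine RingHom.mem_ker.1 (hker ▸ h r x (nonZeroDivisors.ne_zero hr) ?_)
    rw [hker, RingHom.mem_ker, map_mul]
    exact hy
  have e : (c ≫ m).appTop.hom = μ.comp (Scheme.ΓSpecIso (CommRingCat.of R)).hom.hom := by
    rw [RingHom.comp_assoc, ← CommRingCat.hom_comp, Iso.hom_inv_id]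
    rfl
  rw [e]
  exact RingHom.Flat.respectsIso.2 μ
    (Scheme.ΓSpecIso (CommRingCat.of R)).commRingCatIsoToRingEquiv (RingHom.flat_algebraMap_iff.2 hflat)

/-- Flat closed subschemes have saturated ideals. -/
theorem saturated_of_flat [IsDomain R] {W T : Scheme.{u}} [IsAffine T] (c : W ⟶ T)
    [IsClosedImmersion c] (m : T ⟶ Spec (CommRingCat.of R)) [Flat (c ≫ m)]
    (r : R) (hr : r ≠ 0) (x : Γ(T, ⊤))
    (hx : m.appTop ((Scheme.ΓSpecIso (CommRingCat.of R)).inv r) * x ∈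
      c.ker.ideal ⟨⊤, isAffineOpen_top T⟩) :
    x ∈ c.ker.ideal ⟨⊤, isAffineOpen_top T⟩ := by
  haveI : IsAffine W := isAffine_of_isAffineHom c
  have hker : c.ker.ideal ⟨⊤, isAffineOpen_top T⟩ = RingHom.ker c.appTop.hom :=
    c.ker_apply ⟨⊤, isAffineOpen_top T⟩
  have h0 : r ∈ nonZeroDivisors R := mem_nonZeroDivisors_of_ne_zero hr
  have hreg : (c ≫ m).appTop ((Scheme.ΓSpecIso (CommRingCat.of R)).inv r) ∈
      nonZeroDivisors Γ(W, ⊤) :=
    Ideal.EffCartier.mem_nonZeroDivisors_of_flat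
      ((HasRingHomProperty.iff_of_isAffine (P := @Flat)).1 ‹Flat (c ≫ m)›)
      (mem_nonZeroDivisors_of_ne_zero fun h => hr (by
        have := congrArg (Scheme.ΓSpecIso (CommRingCat.of R)).hom h
        simpa using this))
  rw [hker, RingHom.mem_ker] at hx ⊢
  rw [map_mul] at hx
  exact (mul_left_mem_nonZeroDivisors_eq_zero_iff hreg).1 hx

/-- A saturated ideal is determined by the generic fibre. -/
theorem map_le_of_saturated [IsDomain R] [IsFractionRing R K] {T TK : Scheme.{u}} [IsAffine T]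
    (m : T ⟶ Spec (CommRingCat.of R)) {pr : TK ⟶ T} {sn : TK ⟶ Spec (CommRingCat.of K)}
    (sq : IsPullback pr sn m (Spec.map (CommRingCat.ofHom (algebraMap R K))))
    (I' : T.IdealSheafData)
    (hI' : ∀ (r : R) (x : Γ(T, ⊤)), r ≠ 0 →
      m.appTop ((Scheme.ΓSpecIso (CommRingCat.of R)).inv r) * x ∈ I'.ideal ⟨⊤, isAffineOpen_top T⟩ →
        x ∈ I'.ideal ⟨⊤, isAffineOpen_top T⟩) :
    (I'.comap pr).map pr ≤ I' := by
  haveI : IsAffine TK := .of_isPullback sq
  let μ : CommRingCat.of R ⟶ Γ(T, ⊤) := (Scheme.ΓSpecIso (CommRingCat.of R)).inv ≫ m.appTop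
  let σ : CommRingCat.of K ⟶ Γ(TK, ⊤) := (Scheme.ΓSpecIso (CommRingCat.of K)).inv ≫ sn.appTop
  have hpo : IsPushout μ (CommRingCat.ofHom (algebraMap R K)) pr.appTop σ :=
    (isPushout_appTop_of_isPullback sq).of_iso (Scheme.ΓSpecIso (CommRingCat.of R)) (Iso.refl _)
      (Scheme.ΓSpecIso (CommRingCat.of K)) (Iso.refl _)
      (by simp [μ]) (Scheme.ΓSpecIso_naturality _) (by simp) (by simp [σ])
  letI : Algebra R Γ(T, ⊤) := μ.hom.toAlgebra
  letI : Algebra Γ(T, ⊤) Γ(TK, ⊤) := pr.appTop.hom.toAlgebra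
  letI : Algebra K Γ(TK, ⊤) := σ.hom.toAlgebra
  letI : Algebra R Γ(TK, ⊤) := (pr.appTop.hom.comp μ.hom).toAlgebra
  haveI : IsScalarTower R Γ(T, ⊤) Γ(TK, ⊤) := .of_algebraMap_eq' rfl
  haveI : IsScalarTower R K Γ(TK, ⊤) := .of_algebraMap_eq' (congrArg CommRingCat.Hom.hom hpo.w)
  have hP : Algebra.IsPushout R Γ(T, ⊤) K Γ(TK, ⊤) := CommRingCat.isPushout_iff_isPushout.1 hpo
  haveI := (Algebra.isLocalization_iff_isPushout (T := Γ(T, ⊤)) (B := Γ(TK, ⊤))
    (nonZeroDivisors R) K).2 hP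
  refine Scheme.IdealSheafData.le_of_isAffine ?_
  rw [(I'.comap pr).ideal_map pr ⟨⊤, isAffineOpen_top T⟩ (isAffineOpen_top TK)]
  intro x hx
  have hx' : algebraMap Γ(T, ⊤) Γ(TK, ⊤) x ∈
      (I'.ideal ⟨⊤, isAffineOpen_top T⟩).map (algebraMap Γ(T, ⊤) Γ(TK, ⊤)) :=
    (Ideal.Comap.ideal_comap_top pr I').le (Ideal.mem_comap.1 hx)
  obtain ⟨_, ⟨r, hr, rfl⟩, h2⟩ := (IsLocalization.algebraMap_mem_map_algebraMap_iff
    (Algebra.algebraMapSubmonoid Γ(T, ⊤) (nonZeroDivisors R)) Γ(TK, ⊤) _ x).1 hx'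
  exact hI' r x (nonZeroDivisors.ne_zero hr) h2

end Rings

end Groth.Agent.Lib.AlgSpDivExt.Closure
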