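import Groth.Agent.Lib.AlgSpDivExt.Closure
import Groth.Prelude.Def_Neron

/-!
# The closure in a space over a Dedekind domain of a closed subspace of its generic fibre
-/

set_option autoImplicit false
set_option linter.style.haveILetI false

universe u

open CategoryTheory CategoryTheory.Limits AlgebraicGeometry
open AlgSp Groth.Agent.Lib.AlgSpace Groth.Agent.Lib.AlgSpMor Groth.Agent.Lib.AlgSpMor.SchImage

namespace Groth.Agent.Lib.AlgSpDivExt.Closure

variable {R : Type u} [CommRing R] [IsDedekindDomain R]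

/-- The generic point, over the base. -/
noncomputable abbrev genHom :
    Over.mk (Neron.genPt R) ⟶ Over.mk (𝟙 (Spec (CommRingCat.of R))) :=
  Over.homMk (Neron.genPt R) (Category.comp_id _)

instance : Flat (genHom (R := R)).left := by
  haveI : Module.Flat R (FractionRing R) := IsLocalization.flat _ (nonZeroDivisors R)
  exact (HasRingHomProperty.Spec_iff (P := @Flat)).2 (RingHom.flat_algebraMap_iff.2 inferInstance)

instance : QuasiCompact (genHom (R := R)).left :=
  inferInstanceAs (QuasiCompact (Spec.map (CommRingCat.ofHom (algebraMap R (FractionRing R)))))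

instance : Mono (genHom (R := R)).left := by
  haveI : Epi (CommRingCat.ofHom (algebraMap R (FractionRing R))) :=
    IsLocalization.epi (nonZeroDivisors R) _
  exact inferInstanceAs (Mono (Scheme.Spec.map (CommRingCat.ofHom (algebraMap R (FractionRing R))).op))

variable {Y YK H Z : Space (Spec (CommRingCat.of R))}
  {pY : Y.obj ⟶ (yon (Spec (CommRingCat.of R))).obj (Over.mk (𝟙 (Spec (CommRingCat.of R))))}
  {pr : YK ⟶ Y} {qK : YK.obj ⟶ (yon (Spec (CommRingCat.of R))).obj (Over.mk (Neron.genPt R))}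

omit [IsDedekindDomain R] in
/-- The closure of `H` on an affine chart: the image of the ideal of `H` on the generic fibre. -/
theorem chart (hYK : IsPullback pr.hom qK pY ((yon _).map genHom)) (k : H ⟶ YK)
    (hk : RepWith @IsClosedImmersion k.hom) (i : Z ⟶ Y) (hZ : IsSchImage (k.hom ≫ pr.hom) i.hom)
    {T : Over (Spec (CommRingCat.of R))} (hT : IsAffine T.left) (ξ : (yon _).obj T ⟶ Y.obj)
    (hξ : RepWith @Etale ξ) :
    ∃ (TK : Over (Spec (CommRingCat.of R))) (prT : TK ⟶ T)
      (sn : TK.left ⟶ Spec (CommRingCat.of (FractionRing R))) (ξK : (yon _).obj TK ⟶ YK.obj)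
      (J : TK.left.IdealSheafData),
      IsPullback prT.left sn T.hom (Neron.genPt R) ∧ ξK ≫ pr.hom = (yon _).map prT ≫ ξ ∧
        Cut k.hom ξK J ∧ Cut i.hom ξ (J.map prT.left) := by
  obtain ⟨hmono, hfl, hqcK⟩ := pullback_props genHom hYK
  have hqc : IsQuasiCompactMor (k.hom ≫ pr.hom) :=
    QC.isQuasiCompactMor_of_repWith (repWith_comp (P := @QuasiCompact)
      (repWith_mono hk fun _ _ g (_ : IsClosedImmersion g) ↦ (inferInstance : QuasiCompact g)) hqcK)
  have hcut : Cut i.hom ξ (kerAt (k.hom ≫ pr.hom) ξ) :=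
    cut_kerAt H.property Y.property hqc Z.property hZ hT (LocP.locP_of_repWith
      SourceDescent.Scheme.flat (repWith_mono hξ fun _ _ g (_ : Etale g) ↦ (inferInstance : Flat g)))
  let m : T ⟶ Over.mk (𝟙 (Spec (CommRingCat.of R))) := Over.homMk T.hom (Category.comp_id _)
  have hm : (yon _).map m = ξ ≫ pY := by
    obtain ⟨m', hm'⟩ := (yon _).map_surjective (ξ ≫ pY)
    rw [← hm', Over.mkIdTerminal.hom_ext m m']
  have sqT := IsPullback.of_hasPullback m (genHom (R := R))
  let prT := pullback.fst m (genHom (R := R))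
  let sn := pullback.snd m (genHom (R := R))
  have hw : ((yon _).map prT ≫ ξ) ≫ pY = (yon _).map sn ≫ (yon _).map genHom := by
    rw [Category.assoc, ← hm, ← Functor.map_comp, ← Functor.map_comp, sqT.w]
  obtain ⟨ξK, hξK₁, hξK₂⟩ : ∃ ξK, ξK ≫ pr.hom = (yon _).map prT ≫ ξ ∧ ξK ≫ qK = (yon _).map sn :=
    ⟨hYK.lift _ _ hw, hYK.lift_fst _ _ _, hYK.lift_snd _ _ _⟩
  have sqξ : IsPullback ((yon _).map prT) ξK ξ pr.hom := by
    refine IsPullback.of_bot ?_ hξK₁.symm hYK
    rw [hξK₂, ← hm]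
    exact isPullback_yon sqT
  obtain ⟨J, hJ⟩ := exists_cut hk ξK
  haveI := AlgSpDiv.mono_of_closed hk
  obtain ⟨fst, sqD⟩ := hJ.isPullback
  have sqA : IsPullback fst ((yon _).map (subι J ≫ prT)) (k.hom ≫ pr.hom) ξ := by
    rw [Functor.map_comp]
    exact sqD.paste_vert sqξ.flip
  rw [kerAt_eq_ker sqA, Over.comp_left, ← Scheme.IdealSheafData.map_ker, ker_subι] at hcut
  exact ⟨_, prT, sn.left, ξK, J, sqT.map (Over.forget _), hξK₁, hJ, hcut⟩

/-- The closure is flat over the base. -/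
theorem flat_image (hYK : IsPullback pr.hom qK pY ((yon _).map genHom)) (k : H ⟶ YK)
    (hk : RepWith @IsClosedImmersion k.hom) (i : Z ⟶ Y) (hZ : IsSchImage (k.hom ≫ pr.hom) i.hom) :
    LocP @Flat (i.hom ≫ pY) := by
  obtain ⟨ι, O, π, hO, he, hs⟩ := exists_sigma_atlas Y.property
  obtain ⟨I, hI⟩ := exists_cut hZ.1 π
  haveI := AlgSpDiv.mono_of_closed hZ.1
  obtain ⟨fst, sq⟩ := hI.isPullback
  let h : sub I ⟶ Over.mk (𝟙 (Spec (CommRingCat.of R))) := Over.homMk (sub I).hom (Category.comp_id _)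
  refine LocP.locP_of_chart SourceDescent.Scheme.flat Z.property.diag (IsAlgSpace.yon_obj _).diag
    (repWith_baseChange sq.flip he) (repWith_baseChange sq.flip hs) (b := 𝟙 _) (h := h)
    (repWith_of_isIso @Etale _) ?_ ?_
  · obtain ⟨h', hh'⟩ := (yon _).map_surjective (fst ≫ i.hom ≫ pY)
    rw [Category.comp_id, ← hh', Over.mkIdTerminal.hom_ext h h']
  show Flat (I.subschemeι ≫ (sigmaOver O).hom)
  refine IsZariskiLocalAtSource.of_openCover
    ((sigmaOpenCover fun i ↦ (O i).left).pullback₁ I.subschemeι) fun j => ?_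
  haveI : IsAffine (O j).left := hO j
  let ξ := (yon _).map (sigmaOverι O j) ≫ π
  have hξ : RepWith @Etale ξ := repWith_comp (repWith_etale_yon_map (inferInstanceAs
    (Etale (Sigma.ι (fun i ↦ (O i).left) j)))) he
  obtain ⟨TK, prT, sn, ξK, J, sqT, -, -, hJ⟩ := chart hYK k hk i hZ (hO j) ξ hξ
  have hker : (pullback.snd I.subschemeι (Sigma.ι (fun i ↦ (O i).left) j)).ker = J.map prT.left := by
    rw [ker_of_isPullback (IsPullback.of_hasPullback _ _), I.ker_subschemeι]
    exact (hI.comap (sigmaOverι O j)).unique hJ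
  show Flat (pullback.fst I.subschemeι (Sigma.ι (fun i ↦ (O i).left) j) ≫ I.subschemeι ≫
    (sigmaOver O).hom)
  rw [pullback.condition_assoc, show Sigma.ι (fun i ↦ (O i).left) j ≫ (sigmaOver O).hom = (O j).hom
    from Over.w (sigmaOverι O j)]
  haveI : IsAffine TK.left := .of_isPullback sqT
  refine flat_of_saturated _ _ fun r x hr hx => ?_
  rw [hker] at hx ⊢
  exact saturated_map (FractionRing R) (O j).hom sqT.w J r hr x hx

/-- A flat closed subspace with the same generic fibre is contained in the closure. -/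
theorem exists_le_image (hYK : IsPullback pr.hom qK pY ((yon _).map genHom)) (k : H ⟶ YK)
    (hk : RepWith @IsClosedImmersion k.hom) (i : Z ⟶ Y) (hZ : IsSchImage (k.hom ≫ pr.hom) i.hom)
    {Z' : Space (Spec (CommRingCat.of R))} (i' : Z' ⟶ Y) (m' : H ⟶ Z')
    (hi' : RepWith @IsClosedImmersion i'.hom) (hfl' : LocP @Flat (i'.hom ≫ pY))
    (sq' : IsPullback m'.hom k.hom i'.hom pr.hom) : ∃ l, l ≫ i.hom = i'.hom := by
  refine exists_factor Y.property hZ.1 hi' fun T ξ hT hξ I I' hI hI' => ?_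
  obtain ⟨TK, prT, sn, ξK, J, sqT, hξK, hkJ, hJ⟩ := chart hYK k hk i hZ hT ξ hξ
  haveI := AlgSpDiv.mono_of_closed hi'
  obtain ⟨fst, sq⟩ := hI'.isPullback
  let h : sub I' ⟶ Over.mk (𝟙 (Spec (CommRingCat.of R))) := Over.homMk (sub I').hom (Category.comp_id _)
  obtain ⟨h', hh'⟩ := (yon _).map_surjective (fst ≫ i'.hom ≫ pY)
  have hflat : Flat h.left := hfl' fst (𝟙 _) h (repWith_baseChange sq.flip hξ)
    (repWith_of_isIso @Etale _) (by rw [Category.comp_id, ← hh', Over.mkIdTerminal.hom_ext h h'])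
  haveI : Flat (I'.subschemeι ≫ T.hom) := hflat
  have e : J = I'.comap prT.left :=
    (((cut_iff_of_isPullback sq' ξK J).1 hkJ).unique (by rw [hξK]; exact hI'.comap prT))
  rw [hI.unique hJ, e]
  haveI : IsAffine T.left := hT
  refine map_le_of_saturated (FractionRing R) T.hom sqT I' fun r x hr hx => ?_
  rw [← I'.ker_subschemeι] at hx ⊢
  exact saturated_of_flat I'.subschemeι T.hom r hr x hx

/-- The closure is the only flat closed subspace with the given generic fibre. -/
theorem exists_iso (hYK : IsPullback pr.hom qK pY ((yon _).map genHom)) (k : H ⟶ YK)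
    (hk : RepWith @IsClosedImmersion k.hom) (i : Z ⟶ Y) (hZ : IsSchImage (k.hom ≫ pr.hom) i.hom)
    {Z' : Space (Spec (CommRingCat.of R))} (i' : Z' ⟶ Y) (m' : H ⟶ Z')
    (hi' : RepWith @IsClosedImmersion i'.hom) (hfl' : LocP @Flat (i'.hom ≫ pY))
    (sq' : IsPullback m'.hom k.hom i'.hom pr.hom) : ∃ e : Z ≅ Z', e.hom ≫ i' = i := by
  obtain ⟨l, hl⟩ := exists_le_image hYK k hk i hZ i' m' hi' hfl' sq'
  obtain ⟨l', hl'⟩ := hZ.2.2 i'.hom Z'.property hi' ⟨m'.hom, sq'.w⟩
  haveI := AlgSpDiv.mono_of_closed hi'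
  haveI := AlgSpDiv.mono_of_closed hZ.1
  refine ⟨⟨ObjectProperty.homMk l', ObjectProperty.homMk l, ObjectProperty.hom_ext _ ?_,
    ObjectProperty.hom_ext _ ?_⟩, ObjectProperty.hom_ext _ hl'⟩
  · show l' ≫ l = 𝟙 _
    rw [← cancel_mono i.hom, Category.assoc, hl, hl', Category.id_comp]
  · show l ≫ l' = 𝟙 _
    rw [← cancel_mono i'.hom, Category.assoc, hl', hl, Category.id_comp]

end Groth.Agent.Lib.AlgSpDivExt.Closure
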