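import Groth.Agent.Lib.Regular.UFD
import Groth.Agent.S2049
import Mathlib.RingTheory.Flat.TorsionFree

/-!
# Flat finite modules over a valuation ring with regular special fibre

Such a module has a finite free resolution, so its projective localizations are stably free.
-/

set_option autoImplicit false
set_option linter.style.haveILetI false

universe u

open IsLocalRing Groth.Agent.Lib.Regular Groth.Agent.Lib.Regular.PD

namespace Groth.Agent.Lib.AlgSpDivExt

variable {R A : Type u} [CommRing R] [IsDomain R] [ValuationRing R] [CommRing A] [Algebra R A]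

/-- Modules without torsion over a valuation ring are flat. -/
theorem flat_of_smul_eq_zero {M : Type u} [AddCommGroup M] [Module R M]
    (h : ∀ (r : R) (x : M), r ≠ 0 → r • x = 0 → x = 0) : Module.Flat R M := by
  rw [Module.Flat.flat_iff_torsion_eq_bot_of_isBezout, eq_bot_iff]
  rintro x ⟨⟨r, hr⟩, hx⟩
  exact h r x (nonZeroDivisors.ne_zero hr) hx

omit [ValuationRing R] in
theorem eq_zero_of_smul_eq_zero {M : Type u} [AddCommGroup M] [Module R M] [Module.Flat R M]
    {r : R} {x : M} (hr : r ≠ 0) (h : r • x = 0) : x = 0 :=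
  Groth.Agent.S2049.torsionFree_of_flat r x hr h

/-- Elements of the extended maximal ideal are multiples of one element of the maximal ideal. -/
theorem exists_smul_eq_of_mem {M : Type u} [AddCommGroup M] [Module R M] [Module A M]
    [IsScalarTower R A M] {x : M}
    (hx : x ∈ (maximalIdeal R).map (algebraMap R A) • (⊤ : Submodule A M)) :
    ∃ r ∈ maximalIdeal R, ∃ y : M, r • y = x := by
  have hadd : ∀ x₁ x₂ : M, (∃ r ∈ maximalIdeal R, ∃ y : M, r • y = x₁) →
      (∃ r ∈ maximalIdeal R, ∃ y : M, r • y = x₂) →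
      ∃ r ∈ maximalIdeal R, ∃ y : M, r • y = x₁ + x₂ := by
    rintro x₁ x₂ ⟨r₁, h₁, y₁, rfl⟩ ⟨r₂, h₂, y₂, rfl⟩
    rcases ValuationRing.dvd_total r₁ r₂ with ⟨c, rfl⟩ | ⟨c, rfl⟩
    · exact ⟨r₁, h₁, y₁ + c • y₂, by rw [smul_add, ← mul_smul]⟩
    · exact ⟨r₂, h₂, c • y₁ + y₂, by rw [smul_add, ← mul_smul]⟩
  refine Submodule.smul_induction_on hx (fun a ha y _ => ?_) hadd
  induction ha using Submodule.span_induction generalizing y with
  | mem a ha =>
    obtain ⟨r, hr, rfl⟩ := ha
    exact ⟨r, hr, y, (algebraMap_smul A r y).symm⟩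
  | zero => exact ⟨0, zero_mem _, 0, by simp⟩
  | add a b _ _ ha hb => rw [add_smul]; exact hadd _ _ (ha y trivial) (hb y trivial)
  | smul c a _ ha =>
    obtain ⟨r, hr, z, hz⟩ := ha (c • y) trivial
    exact ⟨r, hr, z, hz.trans (by rw [smul_eq_mul, smul_smul, mul_comm])⟩

theorem mem_of_smul {M : Type u} [AddCommGroup M] [Module R M] [Module A M] [IsScalarTower R A M]
    {r : R} (hr : r ∈ maximalIdeal R) (y : M) :
    r • y ∈ (maximalIdeal R).map (algebraMap R A) • (⊤ : Submodule A M) := by
  rw [← algebraMap_smul A r y]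
  exact Submodule.smul_mem_smul (Ideal.mem_map_of_mem _ hr) trivial

theorem pi_eq_zero_of_smul_eq_zero {ι : Type*} [Module.Flat R A] {r : R} {v : ι → A} (hr : r ≠ 0)
    (h : r • v = 0) : v = 0 :=
  funext fun i => eq_zero_of_smul_eq_zero hr (congrFun h i)

variable [IsLocalRing A] [IsLocalHom (algebraMap R A)] [Algebra.EssFiniteType R A] [Module.Flat R A]

omit [Algebra.EssFiniteType R A] [Module.Flat R A] in
theorem map_maximalIdeal_le :
    (maximalIdeal R).map (algebraMap R A) ≤ maximalIdeal A :=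
  Ideal.map_le_iff_le_comap.2 fun r hr hu => hr (IsLocalHom.map_nonunit (f := algebraMap R A) r hu)

/-- A finite module, flat over the valuation ring and free on the special fibre, is free. -/
theorem free_of_fibre {M : Type u} [AddCommGroup M] [Module R M] [Module A M]
    [IsScalarTower R A M] [Module.Finite A M] [Module.Flat R M]
    (h : Module.Projective (A ⧸ (maximalIdeal R).map (algebraMap R A))
      (M ⧸ (maximalIdeal R).map (algebraMap R A) • (⊤ : Submodule A M))) :
    Module.Free A M := by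
  classical
  let 𝔪 := (maximalIdeal R).map (algebraMap R A)
  have h𝔪 : 𝔪 ≤ maximalIdeal A := map_maximalIdeal_le
  haveI : Nontrivial (A ⧸ 𝔪) := Ideal.Quotient.nontrivial_iff.2
    fun e => (maximalIdeal.isMaximal A).ne_top (top_le_iff.1 (e ▸ h𝔪))
  haveI : IsLocalRing (A ⧸ 𝔪) := IsLocalRing.of_surjective' _ Ideal.Quotient.mk_surjective
  haveI : Module.Finite (A ⧸ 𝔪) (M ⧸ 𝔪 • (⊤ : Submodule A M)) :=
    Module.Finite.of_restrictScalars_finite A _ _
  haveI : Module.Free (A ⧸ 𝔪) (M ⧸ 𝔪 • (⊤ : Submodule A M)) :=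
    Module.free_of_flat_of_isLocalRing
  let b := Module.Free.chooseBasis (A ⧸ 𝔪) (M ⧸ 𝔪 • (⊤ : Submodule A M))
  let ι := Module.Free.ChooseBasisIndex (A ⧸ 𝔪) (M ⧸ 𝔪 • (⊤ : Submodule A M))
  choose m hm using fun i : ι => Submodule.Quotient.mk_surjective _ (b i)
  let f : (ι → A) →ₗ[A] M := Fintype.linearCombination A m
  have hmk : ∀ v : ι → A, (Submodule.Quotient.mk (f v) : M ⧸ 𝔪 • (⊤ : Submodule A M)) =
      ∑ i, Ideal.Quotient.mk 𝔪 (v i) • b i := fun v => by
    rw [Fintype.linearCombination_apply, ← Submodule.mkQ_apply, map_sum]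
    refine Finset.sum_congr rfl fun i _ => ?_
    rw [map_smul, Submodule.mkQ_apply, hm]
    exact (algebraMap_smul (A ⧸ 𝔪) (v i) (b i)).symm
  have hjac : 𝔪 ≤ Ideal.jacobson (⊥ : Ideal A) := by
    rwa [IsLocalRing.jacobson_eq_maximalIdeal ⊥ bot_ne_top]
  have hsurj : Function.Surjective f := by
    rw [← LinearMap.range_eq_top, eq_top_iff]
    refine Submodule.le_of_le_smul_of_le_jacobson_bot Module.Finite.fg_top hjac fun x _ => ?_
    obtain ⟨v, hv⟩ : ∃ v : ι → A, ∀ i, Ideal.Quotient.mk 𝔪 (v i) = b.repr (Submodule.Quotient.mk x) i :=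
      ⟨fun i => (Ideal.Quotient.mk_surjective _).choose,
        fun i => (Ideal.Quotient.mk_surjective _).choose_spec⟩
    rw [Submodule.mem_sup]
    refine ⟨f v, ⟨v, rfl⟩, x - f v, ?_, by abel⟩
    rw [← Submodule.Quotient.mk_eq_zero, Submodule.Quotient.mk_sub, hmk, sub_eq_zero]
    simp_rw [hv]
    exact (b.sum_repr _).symm
  haveI : Module.FinitePresentation A M := Groth.Agent.S2049.result (A := R)
  have hfg : (LinearMap.ker f).FG := Module.FinitePresentation.fg_ker f hsurj
  have hker : LinearMap.ker f = ⊥ := by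
    refine Submodule.eq_bot_of_le_smul_of_le_jacobson_bot 𝔪 _ hfg (fun v hv => ?_) hjac
    have h0 : ∑ i, Ideal.Quotient.mk 𝔪 (v i) • b i = 0 := by
      rw [← hmk, LinearMap.mem_ker.1 hv]; rfl
    have hv' : ∀ i, v i ∈ 𝔪 := fun i => Ideal.Quotient.eq_zero_iff_mem.1
      (Fintype.linearIndependent_iff.1 b.linearIndependent _ h0 i)
    have hvtop : v ∈ 𝔪 • (⊤ : Submodule A (ι → A)) := by
      rw [← Finset.univ_sum_single v]
      refine Submodule.sum_mem _ fun i _ => ?_
      rw [show Pi.single i (v i) = v i • (Pi.single i (1 : A) : ι → A) by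
        rw [← Pi.single_smul, smul_eq_mul, mul_one]]
      exact Submodule.smul_mem_smul (hv' i) trivial
    obtain ⟨r, hr, w, rfl⟩ := exists_smul_eq_of_mem hvtop
    by_cases hr0 : r = 0
    · rw [hr0, zero_smul]; exact zero_mem _
    have hw : w ∈ LinearMap.ker f := eq_zero_of_smul_eq_zero hr0
      ((LinearMap.map_smul_of_tower f r w).symm.trans (LinearMap.mem_ker.1 hv))
    rw [← algebraMap_smul A r w]
    exact Submodule.smul_mem_smul (Ideal.mem_map_of_mem _ hr) hw
  exact Module.Free.of_equiv (LinearEquiv.ofBijective f ⟨LinearMap.ker_eq_bot.1 hker, hsurj⟩)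

/-- A projective localization of a finite module which is flat over the valuation ring and of finite
projective dimension on the special fibre is stably free. -/
theorem stably_free (S : Submonoid A) (AS : Type u) [CommRing AS] [Algebra A AS]
    [IsLocalization S AS] :
    ∀ (n : ℕ) {M N : Type u} [AddCommGroup M] [Module R M] [Module A M] [IsScalarTower R A M]
      [Module.Finite A M] [Module.Flat R M] [AddCommGroup N] [Module A N] [Module AS N]
      [IsScalarTower A AS N] (g : M →ₗ[A] N) [IsLocalizedModule S g] [Module.Projective AS N],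
      PDle (A ⧸ (maximalIdeal R).map (algebraMap R A))
        (M ⧸ (maximalIdeal R).map (algebraMap R A) • (⊤ : Submodule A M)) n →
      ∃ a b : ℕ, Nonempty ((N × (Fin a → AS)) ≃ₗ[AS] (Fin b → AS)) := by
  intro n
  induction n with
  | zero =>
    intro M N _ _ _ _ _ _ _ _ _ _ g _ _ h
    haveI : Module.Free A M := free_of_fibre (pdle_zero_iff.mp h)
    have : Module.Free AS N := Module.free_of_isLocalizedModule (Rₛ := AS) S g
    have : Module.Finite AS N := Module.Finite.of_isLocalizedModule S (Rₚ := AS) g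
    let b := Module.Free.chooseBasis AS N
    refine ⟨0, Fintype.card (Module.Free.ChooseBasisIndex AS N), ⟨?_⟩⟩
    exact (LinearEquiv.prodUnique).trans (b.equivFun.trans
      (LinearEquiv.funCongrLeft AS AS (Fintype.equivFin _).symm))
  | succ n ih =>
    intro M N _ _ _ _ _ _ _ _ _ _ g _ _ h
    obtain ⟨k, f, hf⟩ := exists_free_cover (R := A) M
    have : IsLocalizedModule S (Algebra.linearMap A AS) :=
        (isLocalizedModule_iff_isLocalization' S AS).mpr inferInstance
    let ι : (Fin k → A) →ₗ[A] (Fin k → AS) := .pi fun i => Algebra.linearMap A AS ∘ₗ .proj i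
    have hι : IsLocalizedModule S ι := inferInstance
    let fA : (Fin k → AS) →ₗ[AS] N := IsLocalizedModule.mapExtendScalars S ι g AS f
    have hfA : Function.Surjective fA := IsLocalizedModule.map_surjective S ι g f hf
    obtain ⟨s, hs⟩ := Module.projective_lifting_property fA LinearMap.id hfA
    let e : (LinearMap.ker fA × N) ≃ₗ[AS] (Fin k → AS) :=
      ((Function.Exact.splitSurjectiveEquiv (LinearMap.exact_subtype_ker_map fA)
        Subtype.val_injective ⟨s, hs⟩).1).symm
    have : Module.Projective AS (LinearMap.ker fA) :=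
      Module.Projective.of_split (e.toLinearMap ∘ₗ LinearMap.inl AS _ _)
        (LinearMap.fst AS _ _ ∘ₗ e.symm.toLinearMap) (by ext x; simp)
    let g' : LinearMap.ker f →ₗ[A] LinearMap.ker fA := LinearMap.toKerIsLocalized S ι g f
    have : IsLocalizedModule S g' := LinearMap.toKerLocalized_isLocalizedModule AS S ι g f
    haveI : Module.FinitePresentation A M := Groth.Agent.S2049.result (A := R)
    haveI : Module.Finite A (LinearMap.ker f) :=
      Module.Finite.iff_fg.2 (Module.FinitePresentation.fg_ker f hf)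
    haveI : Module.Flat R (LinearMap.ker f) := flat_of_smul_eq_zero fun r x hr hx =>
      Subtype.ext (pi_eq_zero_of_smul_eq_zero hr (congrArg Subtype.val hx))
    -- the special fibre of the syzygy
    let 𝔪 := (maximalIdeal R).map (algebraMap R A)
    let Mb := M ⧸ 𝔪 • (⊤ : Submodule A M)
    let Fb := (Fin k → A) ⧸ 𝔪 • (⊤ : Submodule A (Fin k → A))
    let Kb := LinearMap.ker f ⧸ 𝔪 • (⊤ : Submodule A (LinearMap.ker f))
    have hle : 𝔪 • (⊤ : Submodule A (Fin k → A)) ≤ (𝔪 • (⊤ : Submodule A M)).comap f :=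
      Submodule.smul_top_le_comap_smul_top _ _
    let fb : Fb →ₗ[A ⧸ 𝔪] Mb :=
      (Submodule.mapQ _ _ f hle).extendScalarsOfSurjective Ideal.Quotient.mk_surjective
    have hfb : Function.Surjective fb := fun y => by
      obtain ⟨y, rfl⟩ := Submodule.Quotient.mk_surjective _ y
      obtain ⟨x, rfl⟩ := hf y
      exact ⟨Submodule.Quotient.mk x, rfl⟩
    haveI : Module.Projective (A ⧸ 𝔪) Fb := Module.Projective.of_equiv
      ((TensorProduct.quotTensorEquivQuotSMul (Fin k → A) 𝔪).extendScalarsOfSurjective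
        Ideal.Quotient.mk_surjective)
    let ib : Kb →ₗ[A ⧸ 𝔪] Fb :=
      (Submodule.mapQ _ _ (LinearMap.ker f).subtype
        (Submodule.smul_top_le_comap_smul_top _ _)).extendScalarsOfSurjective
          Ideal.Quotient.mk_surjective
    have hrange : ∀ x, ib x ∈ LinearMap.ker fb := fun x => by
      obtain ⟨x, rfl⟩ := Submodule.Quotient.mk_surjective _ x
      show (Submodule.Quotient.mk (f x.1) : Mb) = 0
      rw [LinearMap.mem_ker.1 x.2]; rfl
    let eK : Kb ≃ₗ[A ⧸ 𝔪] LinearMap.ker fb := LinearEquiv.ofBijective (ib.codRestrict _ hrange) ⟨by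
      rw [injective_iff_map_eq_zero]
      intro x hx
      obtain ⟨x, rfl⟩ := Submodule.Quotient.mk_surjective _ x
      have h1 : (x : Fin k → A) ∈ 𝔪 • (⊤ : Submodule A (Fin k → A)) :=
        (Submodule.Quotient.mk_eq_zero _).1 (congrArg Subtype.val hx)
      obtain ⟨r, hr, w, hw⟩ := exists_smul_eq_of_mem h1
      rw [Submodule.Quotient.mk_eq_zero]
      by_cases hr0 : r = 0
      · rw [show x = 0 from Subtype.ext (by rw [← hw, hr0, zero_smul]; rfl)]
        exact zero_mem _
      have hwk : w ∈ LinearMap.ker f := eq_zero_of_smul_eq_zero hr0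
        ((LinearMap.map_smul_of_tower f r w).symm.trans (hw ▸ LinearMap.mem_ker.1 x.2))
      rw [show x = r • (⟨w, hwk⟩ : LinearMap.ker f) from Subtype.ext hw.symm]
      exact mem_of_smul hr _, by
      rintro ⟨y, hy⟩
      obtain ⟨v, rfl⟩ := Submodule.Quotient.mk_surjective _ y
      obtain ⟨r, hr, z, hz⟩ := exists_smul_eq_of_mem
        ((Submodule.Quotient.mk_eq_zero _).1 (show (Submodule.Quotient.mk (f v) : Mb) = 0 from hy))
      obtain ⟨w, rfl⟩ := hf z
      have hvw : v - r • w ∈ LinearMap.ker f := by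
        rw [LinearMap.mem_ker, map_sub, LinearMap.map_smul_of_tower, hz, sub_self]
      refine ⟨Submodule.Quotient.mk ⟨_, hvw⟩, Subtype.ext ?_⟩
      show (Submodule.Quotient.mk (v - r • w) : Fb) = Submodule.Quotient.mk v
      rw [Submodule.Quotient.eq, sub_sub_cancel_left]
      exact neg_mem (mem_of_smul hr w)⟩
    obtain ⟨a, b, ⟨w⟩⟩ := ih g' (pdle_of_equiv eK.symm ((pdle_succ_iff hfb n).mp h))
    refine ⟨b, a + k, ⟨?_⟩⟩
    exact ((LinearEquiv.refl AS N).prodCongr w.symm).trans <|
      (LinearEquiv.prodAssoc AS N (LinearMap.ker fA) (Fin a → AS)).symm.trans <|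
      (((LinearEquiv.prodComm AS N (LinearMap.ker fA)).trans e).prodCongr (LinearEquiv.refl AS _)).trans <|
      (LinearEquiv.prodComm AS _ _).trans <|
      (LinearEquiv.sumArrowLequivProdArrow (Fin a) (Fin k) AS AS).symm.trans
        (LinearEquiv.funCongrLeft AS AS finSumFinEquiv.symm)

end Groth.Agent.Lib.AlgSpDivExt
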