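import Groth.Agent.Lib.AlgSpDivExt.FiniteRes
import Groth.Agent.Lib.DescAlg.SmoothNormal
import Groth.Agent.Lib.JacCrit.SmoothLocal
import Groth.Agent.Lib.Regular.Serre
import Groth.Agent.H20.GaussVal
import Groth.Agent.H20.ValFlat
import Mathlib.RingTheory.Smooth.Flat

/-!
# Invertible ideals on the generic fibre near a point of a smooth algebra over a valuation ring

At a point over the closed point the saturation of such an ideal is principal.
-/

set_option autoImplicit false
set_option linter.style.haveILetI false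

universe u

open IsLocalRing Groth.Agent.Lib

namespace Groth.Agent.Lib.AlgSpDivExt

variable {R : Type u} [CommRing R] [IsDomain R] [ValuationRing R]

theorem isNormalRing_valuationRing : EGA4.IsNormalRing R := fun p _ =>
  ⟨IsLocalization.isDomain_localization p.primeCompl_le_nonZeroDivisors,
    isIntegrallyClosed_of_isLocalization (Localization.AtPrime p) p.primeCompl
      p.primeCompl_le_nonZeroDivisors⟩

/-- Multiplication by an element outside the special fibre has flat cokernel. -/
theorem flat_quot_span {A : Type u} [CommRing A] [IsLocalRing A] [Algebra R A]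
    [IsLocalHom (algebraMap R A)] [Algebra.EssFiniteType R A] [Module.Flat R A]
    [((maximalIdeal R).map (algebraMap R A)).IsPrime] {e : A}
    (he : e ∉ (maximalIdeal R).map (algebraMap R A)) :
    Module.Flat R (A ⧸ Ideal.span {e}) := by
  have h := (Groth.Agent.H20.ValFlat.injective_and_flat_coker (A := R) (B := A)
    (LinearMap.mulLeft A e) fun x hx => ?_).2
  · haveI := h
    refine Module.Flat.of_linearEquiv
      ((Submodule.quotEquivOfEq (Ideal.span {e}) (LinearMap.range (LinearMap.mulLeft A e)) ?_).restrictScalars R)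
    ext y
    rw [Ideal.mem_span_singleton', LinearMap.mem_range]
    exact ⟨fun ⟨c, hc⟩ => ⟨c, by rw [LinearMap.mulLeft_apply, mul_comm, hc]⟩,
      fun ⟨c, hc⟩ => ⟨c, by rw [← hc, LinearMap.mulLeft_apply, mul_comm]⟩⟩
  · rw [Ideal.smul_top_eq_map, Submodule.restrictScalars_mem] at hx ⊢
    exact ((Ideal.IsPrime.mem_or_mem ‹_› hx).resolve_left he)

theorem mem_span_of_smul_mem {A : Type u} [CommRing A] [Algebra R A] {e x : A} {r : R}
    [Module.Flat R (A ⧸ Ideal.span {e})] (hr : r ≠ 0) (h : r • x ∈ Ideal.span {e}) :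
    x ∈ Ideal.span {e} := by
  rw [← Ideal.Quotient.eq_zero_iff_mem] at h ⊢
  exact eq_zero_of_smul_eq_zero hr ((Submodule.Quotient.mk_smul _ r x).symm.trans h)

variable {B : Type u} [CommRing B] [Algebra R B] [Algebra.Smooth R B] (p : Ideal B) [p.IsPrime]

theorem isDomain_atPrime (R : Type u) [CommRing R] [IsDomain R] [ValuationRing R] [Algebra R B]
    [Algebra.Smooth R B] : IsDomain (Localization.AtPrime p) :=
  (DescAlg.SmoothNormal.atPrime (isNormalRing_valuationRing (R := R)) p).1

omit [Algebra.Smooth R B] in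
theorem isLocalHom_atPrime (hp : p.comap (algebraMap R B) = maximalIdeal R) :
    IsLocalHom (algebraMap R (Localization.AtPrime p)) := by
  refine ⟨fun r hr => by_contra fun hu => ?_⟩
  have hmem : algebraMap R B r ∈ p := hp.ge hu
  exact (IsLocalization.AtPrime.to_map_mem_maximal_iff (Localization.AtPrime p) p _).2 hmem
    (by rwa [← IsScalarTower.algebraMap_apply])

/-- The saturation of an invertible ideal of the generic fibre is principal at a point over the
closed point. -/
theorem exists_generator (hp : p.comap (algebraMap R B) = maximalIdeal R) (AK : Type u) [CommRing AK]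
    [Algebra (Localization.AtPrime p) AK]
    [IsLocalization (Algebra.algebraMapSubmonoid (Localization.AtPrime p) (nonZeroDivisors R)) AK]
    [IsNoetherianRing AK] (J : Ideal AK) (hJ0 : J ≠ ⊥)
    (hloc : ∀ (I : Ideal AK) [I.IsPrime],
      (J.map (algebraMap AK (Localization.AtPrime I))).IsPrincipal) :
    ∃ g : Localization.AtPrime p, g ≠ 0 ∧
      J.comap (algebraMap (Localization.AtPrime p) AK) = Ideal.span {g} := by
  classical
  let A := Localization.AtPrime p
  haveI : IsDomain A := isDomain_atPrime p R
  haveI : IsLocalHom (algebraMap R A) := isLocalHom_atPrime p hp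
  haveI : Module.Flat R B := Algebra.Smooth.flat R B
  haveI : Module.Flat B A := IsLocalization.flat A p.primeCompl
  haveI : Module.Flat R A := Module.Flat.trans R B A
  haveI : Algebra.FormallySmooth B A := Algebra.FormallySmooth.of_isLocalization p.primeCompl
  haveI hfsA : Algebra.FormallySmooth R A := Algebra.FormallySmooth.comp R B A
  haveI : Algebra.EssFiniteType B A := Algebra.EssFiniteType.of_isLocalization A p.primeCompl
  haveI : Algebra.EssFiniteType R A := Algebra.EssFiniteType.comp R B A
  let 𝔪 := (maximalIdeal R).map (algebraMap R A)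
  haveI : IsRegularLocalRing (A ⧸ 𝔪) :=
    JacCrit.SmoothLocal.isRegularLocalRing_fibre (algebraMap R A)
      (RingHom.essFiniteType_algebraMap.mpr inferInstance)
      (RingHom.formallySmooth_algebraMap.mpr inferInstance)
  haveI : IsDomain (A ⧸ 𝔪) := Regular.Quotient.isDomain _
  haveI h𝔪 : 𝔪.IsPrime := (Ideal.Quotient.isDomain_iff_prime 𝔪).1 inferInstance
  let S := Algebra.algebraMapSubmonoid A (nonZeroDivisors R)
  have hinj : Function.Injective (algebraMap R A) := by
    rw [injective_iff_map_eq_zero]
    intro r hr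
    by_contra hne
    exact one_ne_zero (eq_zero_of_smul_eq_zero hne
      (show r • (1 : A) = 0 by rw [Algebra.smul_def, hr, zero_mul]))
  have hS : S ≤ nonZeroDivisors A := by
    rintro _ ⟨r, hr, rfl⟩
    exact mem_nonZeroDivisors_of_ne_zero fun h =>
      nonZeroDivisors.ne_zero hr (hinj (h.trans (map_zero _).symm))
  haveI : IsDomain AK := IsLocalization.isDomain_of_le_nonZeroDivisors AK hS
  have hAK : Function.Injective (algebraMap A AK) := IsLocalization.injective AK hS
  -- a finitely generated ideal generating `J`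
  obtain ⟨s, hs⟩ := (IsNoetherian.noetherian J : J.FG)
  choose num hnum using fun x : AK => IsLocalization.surj S x
  let M : Ideal A := Ideal.span (s.image fun x => (num x).1 : Finset A)
  have hM : M.map (algebraMap A AK) = J := by
    refine le_antisymm ?_ ?_
    · rw [Ideal.map_span, Ideal.span_le]
      rintro _ ⟨_, hy, rfl⟩
      obtain ⟨x, hx, rfl⟩ := Finset.mem_image.1 hy
      rw [SetLike.mem_coe, ← hnum x]
      exact J.mul_mem_right _ (hs ▸ Submodule.subset_span hx)
    · rw [← hs, Submodule.span_le]
      intro x hx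
      have h1 : algebraMap A AK (num x).1 ∈ M.map (algebraMap A AK) :=
        Ideal.mem_map_of_mem _ (Ideal.subset_span (Finset.mem_image_of_mem _ hx))
      obtain ⟨v, hv⟩ := IsLocalization.map_units AK (num x).2
      have h2 := (M.map (algebraMap A AK)).mul_mem_right ((v⁻¹ : AKˣ) : AK) h1
      rwa [← hnum x, ← hv, Units.mul_inv_cancel_right] at h2
  haveI : Module.Finite A M := Module.Finite.iff_fg.2 ⟨_, rfl⟩
  haveI : Module.Flat R M := flat_of_smul_eq_zero fun r x hr hx =>
    Subtype.ext (eq_zero_of_smul_eq_zero hr (congrArg Subtype.val hx))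
  -- `J` is projective
  have hP' : M.localized' AK S (Algebra.linearMap A AK) = J := by rw [Ideal.localized'_eq_map, hM]
  haveI : Module.Projective AK J := by
    have hl : ∀ (I : Ideal AK) (_ : I.IsMaximal), Module.Projective (Localization.AtPrime I)
        (LocalizedModule I.primeCompl J) := by
      intro I hI
      let C := Localization.AtPrime I
      haveI : IsDomain C := IsLocalization.isDomain_localization I.primeCompl_le_nonZeroDivisors
      obtain ⟨c, hc⟩ := (hloc I).principal
      have : Module.Projective C (J.localized' C I.primeCompl (Algebra.linearMap AK C)) := by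
        rw [Ideal.localized'_eq_map, hc]
        rcases eq_or_ne c 0 with rfl | hc0
        · have : Subsingleton (Submodule.span C ({0} : Set C)) := by
            rw [Submodule.span_zero_singleton]; infer_instance
          infer_instance
        · exact Module.Projective.of_equiv (LinearEquiv.toSpanNonzeroSingleton C C c hc0)
      exact Module.Projective.of_equiv
        (((IsLocalizedModule.linearEquiv I.primeCompl
          (J.toLocalized' C I.primeCompl (Algebra.linearMap AK C))
          (LocalizedModule.mkLinearMap I.primeCompl J)).extendScalarsOfIsLocalization I.primeCompl C))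
    haveI : Module.FinitePresentation AK J := Module.finitePresentation_of_finite AK J
    exact Module.projective_of_localization_maximal hl
  haveI : Module.Projective AK (M.localized' AK S (Algebra.linearMap A AK)) := by
    rw [hP']; infer_instance
  haveI : Module.Finite (A ⧸ 𝔪) (M ⧸ 𝔪 • (⊤ : Submodule A M)) :=
    Module.Finite.of_restrictScalars_finite A _ _
  obtain ⟨a, b, ⟨e⟩⟩ := stably_free (R := R) S AK _
    (M.toLocalized' AK S (Algebra.linearMap A AK))
    (Regular.Serre.pdle_all (M ⧸ 𝔪 • (⊤ : Submodule A M)))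
  obtain ⟨x, hx⟩ := (Regular.UFD.isPrincipal_of_stably_free J a b
    (((LinearEquiv.ofEq _ _ hP'.symm).prodCongr (LinearEquiv.refl AK _)).trans e)).principal
  -- a generator in the ring
  obtain ⟨⟨a₀, d⟩, hd⟩ := IsLocalization.surj S x
  have hJa : J = Ideal.span {algebraMap A AK a₀} := by
    rw [← hd, Ideal.span_singleton_mul_right_unit (IsLocalization.map_units AK d)]
    exact hx
  have ha₀ : a₀ ≠ 0 := fun h => hJ0 (by
    rw [hJa, h, map_zero, Ideal.span_singleton_eq_bot])
  obtain ⟨⟨b₀, w₀⟩, hb₀⟩ := IsLocalization.surj p.primeCompl a₀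
  -- the generic point of the special fibre
  let ξ : Ideal B := 𝔪.comap (algebraMap B A)
  haveI : ξ.IsPrime := Ideal.IsPrime.comap _
  have hξp : ξ ≤ p := fun y hy => by
    have h1 : algebraMap B A y ∈ maximalIdeal A := map_maximalIdeal_le (R := R) hy
    exact (IsLocalization.AtPrime.to_map_mem_maximal_iff A p y).1 h1
  have hmξ : (maximalIdeal R).map (algebraMap R B) ≤ ξ := by
    rw [← Ideal.map_le_iff_le_comap, Ideal.map_map, ← IsScalarTower.algebraMap_eq]
  have hξmin : ξ ∈ ((maximalIdeal R).map (algebraMap R B)).minimalPrimes := by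
    refine ⟨⟨inferInstance, hmξ⟩, fun Q hQ hQξ y hy => ?_⟩
    have h1 : algebraMap B A y ∈ ((maximalIdeal R).map (algebraMap R B)).map (algebraMap B A) := by
      rw [Ideal.map_map, ← IsScalarTower.algebraMap_eq]; exact hy
    obtain ⟨t, ht, hty⟩ := (IsLocalization.algebraMap_mem_map_algebraMap_iff p.primeCompl A _ y).1 h1
    exact ((hQ.1.mem_or_mem (hQ.2 hty))).resolve_left fun h => ht (hξp (hQξ h))
  have hout : ∀ y : B, y ∉ ξ → algebraMap B A y ∉ 𝔪 := fun y hy => hy
  rcases Groth.Agent.H20.GaussVal.exists_eq_mul ξ hξmin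
    (algebraMap B (Localization.AtPrime ξ) b₀) with h0 | ⟨c, v, hc, hv⟩
  · exfalso
    obtain ⟨⟨z, hz⟩, hz0⟩ := (IsLocalization.map_eq_zero_iff ξ.primeCompl _ _).1 h0
    have h1 : algebraMap B A z * algebraMap B A b₀ = 0 := by rw [← map_mul, hz0, map_zero]
    refine ha₀ ((mul_eq_zero.1 (hb₀.trans ?_)).resolve_right (IsLocalization.map_units A w₀).ne_zero)
    exact (mul_eq_zero.1 h1).resolve_left fun h => hout z hz (h ▸ zero_mem _)
  obtain ⟨⟨t, w⟩, htw⟩ := IsLocalization.surj ξ.primeCompl (v : Localization.AtPrime ξ)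
  have htξ : t ∉ ξ := by
    intro ht
    have h1 : algebraMap B (Localization.AtPrime ξ) t ∈ maximalIdeal (Localization.AtPrime ξ) :=
      (IsLocalization.AtPrime.to_map_mem_maximal_iff (Localization.AtPrime ξ) ξ t).2 ht
    rw [← htw] at h1
    exact h1 (v.isUnit.mul (IsLocalization.map_units _ w))
  have heq : algebraMap B (Localization.AtPrime ξ) ((w : B) * b₀) =
      algebraMap B (Localization.AtPrime ξ) (t * algebraMap R B c) := by
    rw [map_mul, map_mul, hv, ← htw, ← IsScalarTower.algebraMap_apply R B (Localization.AtPrime ξ)]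
    ring
  obtain ⟨z, hz⟩ := (IsLocalization.eq_iff_exists ξ.primeCompl _).1 heq
  let w' : A := algebraMap B A ((z : B) * w) * algebraMap B A w₀
  let t' : A := algebraMap B A ((z : B) * t)
  have hw' : w' ∉ 𝔪 := fun h => by
    rcases h𝔪.mem_or_mem h with h | h
    · exact hout _ (mul_mem z.2 w.2 : (z : B) * w ∈ ξ.primeCompl) h
    · exact hout _ (fun h' => w₀.2 (hξp h')) h
  have ht' : t' ∉ 𝔪 := hout _ (mul_mem z.2 htξ : (z : B) * t ∈ ξ.primeCompl)
  have hwa : w' * a₀ = c • t' := by
    have h2 := congrArg (algebraMap B A) hz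
    simp only [map_mul, ← IsScalarTower.algebraMap_apply R B A] at h2
    simp only [w', t', map_mul, Algebra.smul_def]
    rw [← hb₀] at h2
    linear_combination h2
  haveI := flat_quot_span (R := R) hw'
  obtain ⟨g, hg⟩ := Ideal.mem_span_singleton.1 (mem_span_of_smul_mem (e := w') hc
    (hwa ▸ Ideal.mul_mem_right _ _ (Ideal.mem_span_singleton_self w')))
  have ha₀g : a₀ = algebraMap R A c * g := by
    refine mul_left_cancel₀ (a := w') (fun h => hw' (by rw [h]; exact zero_mem _)) ?_
    rw [hwa, Algebra.smul_def, hg]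
    ring
  have hg𝔪 : g ∉ 𝔪 := fun h => ht' (hg ▸ 𝔪.mul_mem_left _ h)
  have hcS : algebraMap R A c ∈ S := ⟨c, mem_nonZeroDivisors_of_ne_zero hc, rfl⟩
  have hJg : J = Ideal.span {algebraMap A AK g} := by
    rw [hJa, ha₀g, map_mul,
      Ideal.span_singleton_mul_left_unit (IsLocalization.map_units AK (⟨_, hcS⟩ : S))]
  refine ⟨g, fun h => hg𝔪 (h ▸ zero_mem _), le_antisymm (fun y hy => ?_) ?_⟩
  · rw [Ideal.mem_comap, hJg, Ideal.mem_span_singleton'] at hy
    obtain ⟨q, hq⟩ := hy
    obtain ⟨⟨q₀, ⟨_, r, hr, rfl⟩⟩, hq₀⟩ := IsLocalization.surj S q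
    haveI := flat_quot_span (R := R) hg𝔪
    refine mem_span_of_smul_mem (nonZeroDivisors.ne_zero hr) (Ideal.mem_span_singleton'.2 ⟨q₀, ?_⟩)
    apply hAK
    rw [map_mul, ← hq₀, Algebra.smul_def, map_mul, ← hq]
    ring
  · rw [Ideal.span_le, Set.singleton_subset_iff, SetLike.mem_coe, Ideal.mem_comap, hJg]
    exact Ideal.mem_span_singleton_self _

end Groth.Agent.Lib.AlgSpDivExt
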