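import Groth.Agent.Lib.AlgSpDivExt.Spread
import Groth.Agent.Lib.Ideal.EffCartier

/-!
# Closures of divisors of the generic fibre of a smooth affine scheme over a valuation ring
-/

set_option autoImplicit false
set_option linter.style.haveILetI false

universe u

open CategoryTheory AlgebraicGeometry TopologicalSpace
open Groth.Agent.Lib

namespace Groth.Agent.Lib.AlgSpDivExt

/-- On an affine scheme an effective Cartier ideal is principal and nonzero at every prime. -/
theorem map_isPrincipal_of_isEffCartier {X : Scheme.{u}} [IsAffine X] {J : X.IdealSheafData}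
    (hJ : BlowUp.IsEffCartierIdeal J) (P : Ideal Γ(X, ⊤)) [P.IsPrime] :
    ((J.ideal ⟨⊤, isAffineOpen_top X⟩).map
        (algebraMap Γ(X, ⊤) (Localization.AtPrime P))).IsPrincipal ∧
      (J.ideal ⟨⊤, isAffineOpen_top X⟩).map
        (algebraMap Γ(X, ⊤) (Localization.AtPrime P)) ≠ ⊥ := by
  have hX := isAffineOpen_top X
  let y : PrimeSpectrum Γ(X, ⊤) := ⟨P, inferInstance⟩
  let x := hX.fromSpec y
  let alg := X.presheaf.algebra_section_stalk (⟨x, trivial⟩ : (⊤ : X.Opens))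
  haveI : IsLocalization.AtPrime (X.presheaf.stalk x) P := hX.isLocalization_stalk' y trivial
  obtain ⟨U, hxU, f, hf, hJU⟩ := hJ x
  let c := X.presheaf.germ U.1 x hxU f
  have hmap : (J.ideal ⟨⊤, hX⟩).map (algebraMap Γ(X, ⊤) (X.presheaf.stalk x)) = Ideal.span {c} := by
    have h1 := congrArg (Ideal.map (X.presheaf.germ U.1 x hxU).hom)
      (J.map_ideal (U := U) (V := ⟨⊤, hX⟩) (show U.1 ≤ ⊤ from le_top))
    rw [Ideal.map_map, hJU, Ideal.map_span, Set.image_singleton, ← CommRingCat.hom_comp] at h1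
    exact (congrArg (fun g => Ideal.map (CommRingCat.Hom.hom g) (J.ideal ⟨⊤, hX⟩))
      (X.presheaf.germ_res (homOfLE (show U.1 ≤ ⊤ from le_top)) x hxU)).symm.trans h1
  have hc : c ∈ nonZeroDivisors (X.presheaf.stalk x) :=
    Ideal.EffCartier.germ_mem_nonZeroDivisors U.2 hf x hxU
  let e := IsLocalization.algEquiv P.primeCompl (X.presheaf.stalk x) (Localization.AtPrime P)
  have he : (J.ideal ⟨⊤, hX⟩).map (algebraMap Γ(X, ⊤) (Localization.AtPrime P)) =
      Ideal.span {e c} := by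
    rw [← e.toAlgHom.comp_algebraMap, ← Ideal.map_map, hmap, Ideal.map_span, Set.image_singleton]
    rfl
  refine ⟨⟨⟨e c, he⟩⟩, ?_⟩
  rw [he, Ne, Ideal.span_singleton_eq_bot, EmbeddingLike.map_eq_zero_iff]
  exact fun h => zero_notMem_nonZeroDivisors (h ▸ hc)

/-- The image ideal in `T` of an effective Cartier ideal of the generic fibre is effective Cartier
when `T` is smooth over the valuation ring. -/
theorem isEffCartier_map {R : Type u} [CommRing R] [IsDomain R] [ValuationRing R]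
    {T TK : Scheme.{u}} [IsAffine T] [IsAffine TK] (pr : TK ⟶ T)
    [Algebra R Γ(T, ⊤)] [Algebra.Smooth R Γ(T, ⊤)]
    (hloc : @IsLocalization Γ(T, ⊤) _ (Algebra.algebraMapSubmonoid Γ(T, ⊤) (nonZeroDivisors R))
      Γ(TK, ⊤) _ pr.appTop.hom.toAlgebra)
    [IsNoetherianRing Γ(TK, ⊤)] {J : TK.IdealSheafData} (hJ : BlowUp.IsEffCartierIdeal J) :
    BlowUp.IsEffCartierIdeal (J.map pr) := by
  letI : Algebra Γ(T, ⊤) Γ(TK, ⊤) := pr.appTop.hom.toAlgebra
  haveI := hloc
  have hT := isAffineOpen_top T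
  have hI : (J.map pr).ideal ⟨⊤, hT⟩ =
      (J.ideal ⟨⊤, isAffineOpen_top TK⟩).comap (algebraMap Γ(T, ⊤) Γ(TK, ⊤)) :=
    J.ideal_map pr ⟨⊤, hT⟩ (isAffineOpen_top TK)
  intro x
  let p := (hT.primeIdealOf ⟨x, trivial⟩).asIdeal
  haveI : p.IsPrime := (hT.primeIdealOf ⟨x, trivial⟩).2
  obtain ⟨h, hp, f, hf, hgen, hnzd⟩ := exists_local_generator (R := R) Γ(TK, ⊤)
    (J.ideal ⟨⊤, isAffineOpen_top TK⟩) (fun P _ => map_isPrincipal_of_isEffCartier hJ P) p
  let V : T.affineOpens := ⟨T.basicOpen h, hT.basicOpen h⟩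
  haveI := hT.isLocalization_basicOpen h
  have hxV : x ∈ T.basicOpen h :=
    (Ideal.EffCartier.mem_basicOpen_iff_notMem_prime hT (trivial : x ∈ (⊤ : T.Opens)) h).2 hp
  let res : Γ(T, ⊤) →+* Γ(T, T.basicOpen h) := algebraMap _ _
  have hu : IsUnit (res h) := IsLocalization.map_units _ (⟨h, Submonoid.mem_powers h⟩ : Submonoid.powers h)
  refine ⟨V, hxV, res f, ?_, ?_⟩
  · refine Ideal.EffCartier.mem_nonZeroDivisors_of_eq_zero fun b hb => ?_
    obtain ⟨⟨a, ⟨_, n, rfl⟩⟩, ha⟩ := IsLocalization.surj (Submonoid.powers h) b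
    have h1 : res (f * a) = 0 := by
      rw [map_mul, ← ha, ← mul_assoc, hb, zero_mul]
    obtain ⟨⟨_, m, rfl⟩, hm⟩ :=
      (IsLocalization.map_eq_zero_iff (Submonoid.powers h) Γ(T, T.basicOpen h) _).1 h1
    have h2 : h * (h ^ m * a) = 0 := hnzd _ (by rw [mul_left_comm]; exact hm)
    have h3 : res a = 0 := (IsUnit.mul_right_eq_zero ((hu.mul (hu.pow m)))).1 (by
      rw [← map_pow, ← map_mul, ← map_mul, mul_assoc, h2, map_zero])
    refine (IsUnit.mul_left_eq_zero (hu.pow n)).1 ?_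
    rw [← map_pow]
    exact ha.trans h3
  · rw [← (J.map pr).map_ideal (U := V) (V := ⟨⊤, hT⟩) (T.basicOpen_le h)]
    refine le_antisymm ?_ ?_
    · rw [Ideal.map_le_iff_le_comap]
      intro a ha
      rw [hI] at ha
      obtain ⟨c, hc⟩ := Ideal.mem_span_singleton'.1 (hgen a ha)
      refine Ideal.mem_span_singleton'.2 ⟨hu.unit⁻¹.val * res c, ?_⟩
      rw [mul_assoc, ← map_mul, hc, map_mul, ← mul_assoc, IsUnit.val_inv_mul, one_mul]
      rfl
    · rw [Ideal.span_le, Set.singleton_subset_iff]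
      exact Ideal.mem_map_of_mem _ (hI ▸ hf)

end Groth.Agent.Lib.AlgSpDivExt
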