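import Groth.Agent.Lib.AlgSpDivExt.Scheme
import Groth.Agent.Lib.AlgSpMor.SchImage.Main
import Groth.Agent.Lib.AlgSpMor.SchImage.Rep
import Mathlib.Algebra.Category.Ring.Instances
import Groth.Agent.Lib.AlgSpDiv.Basic
import Groth.Agent.Lib.AlgSpMor.QC
import Mathlib.AlgebraicGeometry.Morphisms.Smooth
import Mathlib.RingTheory.FiniteType

/-!
# Closures of divisors on the generic fibre, seen on an affine chart
-/

set_option autoImplicit false
set_option linter.style.haveILetI false

universe u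

open CategoryTheory CategoryTheory.Limits AlgebraicGeometry
open AlgSp Groth.Agent.Lib.AlgSpace Groth.Agent.Lib.AlgSpMor Groth.Agent.Lib.AlgSpMor.SchImage

namespace Groth.Agent.Lib.AlgSpDivExt

variable {R : Type u} [CommRing R] [IsDomain R] [ValuationRing R] (K : Type u) [Field K] [Algebra R K]
  [IsFractionRing R K]

/-- The scheme statement, for the generic fibre as a fibre product. -/
theorem isEffCartier_map_pullback {T TK : Scheme.{u}} [IsAffine T] (m : T ⟶ Spec (CommRingCat.of R))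
    [Smooth m] {pr : TK ⟶ T} {sn : TK ⟶ Spec (CommRingCat.of K)}
    (sq : IsPullback pr sn m (Spec.map (CommRingCat.ofHom (algebraMap R K))))
    {J : TK.IdealSheafData} (hJ : BlowUp.IsEffCartierIdeal J) :
    BlowUp.IsEffCartierIdeal (J.map pr) := by
  haveI : IsAffine TK := .of_isPullback sq
  let μ : CommRingCat.of R ⟶ Γ(T, ⊤) := (Scheme.ΓSpecIso (CommRingCat.of R)).inv ≫ m.appTop
  let σ : CommRingCat.of K ⟶ Γ(TK, ⊤) := (Scheme.ΓSpecIso (CommRingCat.of K)).inv ≫ sn.appTop
  have hpo : IsPushout μ (CommRingCat.ofHom (algebraMap R K)) pr.appTop σ :=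
    (isPushout_appTop_of_isPullback sq).of_iso (Scheme.ΓSpecIso (CommRingCat.of R)) (Iso.refl _)
      (Scheme.ΓSpecIso (CommRingCat.of K)) (Iso.refl _)
      (by simp [μ]) (Scheme.ΓSpecIso_naturality _) (by simp) (by simp [σ])
  letI : Algebra R Γ(T, ⊤) := μ.hom.toAlgebra
  letI : Algebra Γ(T, ⊤) Γ(TK, ⊤) := pr.appTop.hom.toAlgebra
  letI : Algebra K Γ(TK, ⊤) := σ.hom.toAlgebra
  letI : Algebra R Γ(TK, ⊤) := (pr.appTop.hom.comp μ.hom).toAlgebra
  haveI : IsScalarTower R Γ(T, ⊤) Γ(TK, ⊤) := .of_algebraMap_eq' rfl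
  haveI : IsScalarTower R K Γ(TK, ⊤) := .of_algebraMap_eq' (congrArg CommRingCat.Hom.hom hpo.w)
  have hP : Algebra.IsPushout R Γ(T, ⊤) K Γ(TK, ⊤) := CommRingCat.isPushout_iff_isPushout.1 hpo
  have hloc := (Algebra.isLocalization_iff_isPushout (T := Γ(T, ⊤)) (B := Γ(TK, ⊤))
    (nonZeroDivisors R) K).2 hP
  have hsm : μ.hom.Smooth := by
    rw [CommRingCat.hom_comp]
    exact RingHom.Smooth.respectsIso.2 _ (Scheme.ΓSpecIso (CommRingCat.of R)).symm.commRingCatIsoToRingEquiv
      ((HasRingHomProperty.iff_of_isAffine (P := @Smooth)).1 ‹Smooth m›)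
  haveI : Algebra.Smooth R Γ(T, ⊤) := RingHom.smooth_algebraMap.1 hsm
  haveI : Smooth sn := MorphismProperty.of_isPullback sq ‹Smooth m›
  haveI : IsNoetherianRing Γ(TK, ⊤) := by
    have h1 : σ.hom.FiniteType := by
      rw [CommRingCat.hom_comp]
      exact RingHom.finiteType_respectsIso.2 _
        (Scheme.ΓSpecIso (CommRingCat.of K)).symm.commRingCatIsoToRingEquiv
        ((HasRingHomProperty.iff_of_isAffine (P := @LocallyOfFiniteType)).1 inferInstance)
    haveI : Algebra.FiniteType K Γ(TK, ⊤) := h1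
    exact Algebra.FiniteType.isNoetherianRing K _
  exact isEffCartier_map (R := R) pr hloc hJ

variable {S : Scheme.{u}}

/-- The inclusion of the generic point of the base, over `S`. -/
noncomputable abbrev genMap (str : Spec (CommRingCat.of R) ⟶ S) :
    Over.mk (Spec.map (CommRingCat.ofHom (algebraMap R K)) ≫ str) ⟶ Over.mk str :=
  Over.homMk (Spec.map (CommRingCat.ofHom (algebraMap R K))) rfl

/-- The generic fibre of a space over a valuation ring: properties of its inclusion. -/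
theorem genericFibre_props (str : Spec (CommRingCat.of R) ⟶ S) {X XK : Sp S} (hX : IsAlgSpace X)
    {f : X ⟶ (yon S).obj (Over.mk str)} {gK : XK ⟶ X}
    {fK : XK ⟶ (yon S).obj (Over.mk (Spec.map (CommRingCat.ofHom (algebraMap R K)) ≫ str))}
    (hXK : IsPullback gK fK f ((yon S).map (genMap K str))) :
    Mono gK ∧ LocP @Flat gK ∧ RepWith @QuasiCompact gK := by
  haveI : Module.Flat R K := IsLocalization.flat K (nonZeroDivisors R)
  haveI : Flat (genMap K str).left :=
    (HasRingHomProperty.Spec_iff (P := @Flat)).2 (RingHom.flat_algebraMap_iff.2 inferInstance)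
  haveI : QuasiCompact (genMap K str).left :=
    inferInstanceAs (QuasiCompact (Spec.map (CommRingCat.ofHom (algebraMap R K))))
  haveI : Mono (genMap K str).left := by
    haveI : Epi (CommRingCat.ofHom (algebraMap R K)) :=
      IsLocalization.epi (nonZeroDivisors R) K
    exact inferInstanceAs (Mono (Scheme.Spec.map (CommRingCat.ofHom (algebraMap R K)).op))
  haveI : Mono (genMap K str) := (Over.forget S).mono_of_mono_map ‹_›
  refine ⟨MorphismProperty.of_isPullback (P := MorphismProperty.monomorphisms (Sp S)) hXK.flip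
      (inferInstanceAs (Mono ((yon S).map (genMap K str)))), ?_, ?_⟩
  · exact LocP.locP_of_repWith SourceDescent.Scheme.flat
      (repWith_baseChange hXK.flip ((repWith_yon_map_iff (P := @Flat) _).2 ‹_›))
  · exact repWith_baseChange hXK.flip ((repWith_yon_map_iff (P := @QuasiCompact) _).2 ‹_›)

/-- The scheme theoretic image of a divisor of the generic fibre of a smooth space over a valuation
ring is a divisor. -/
theorem isEffCartierSub_image (str : Spec (CommRingCat.of R) ⟶ S) {X XK D D' : Sp S}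
    (hX : IsAlgSpace X) (hXKs : IsAlgSpace XK) (hDs : IsAlgSpace D) (hD's : IsAlgSpace D')
    {f : X ⟶ (yon S).obj (Over.mk str)} (hf : LocP @Smooth f) {gK : XK ⟶ X}
    {fK : XK ⟶ (yon S).obj (Over.mk (Spec.map (CommRingCat.ofHom (algebraMap R K)) ≫ str))}
    (hXK : IsPullback gK fK f ((yon S).map (genMap K str)))
    {i : D ⟶ XK} (hD : IsEffCartierSub i) (hqc : IsQuasiCompactMor (i ≫ gK))
    {i' : D' ⟶ X} (hi' : IsSchImage (i ≫ gK) i') : IsEffCartierSub i' := by
  obtain ⟨V, π, hπ, hπs⟩ := hX.atlas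
  refine AlgSpDiv.isEffCartierSub_of_forall_nhd hX hi'.1 fun x => ?_
  obtain ⟨v, hv⟩ := surjective_ofPt hπs (Points.map i' x)
  obtain ⟨O, hO, hvO, -⟩ := exists_isAffineOpen_mem_and_subset (x := v) (U := ⊤) trivial
  let U : Over S := Over.mk (O.ι ≫ V.hom)
  let ι : U ⟶ V := Over.homMk O.ι rfl
  haveI : IsAffine U.left := hO
  let ξ : (yon S).obj U ⟶ X := (yon S).map ι ≫ π
  have hξ : RepWith @Etale ξ := repWith_yon_map_comp (P := @Etale) (inferInstanceAs (Etale O.ι)) hπ
  refine ⟨U, ξ, ⟨v, hvO⟩, kerAt (i ≫ gK) ξ, hξ, ?_, ?_, ?_⟩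
  · rw [← hv, ofPt_yon_map_comp]; rfl
  · exact cut_kerAt hDs hX hqc hD's hi' (T := U) ‹IsAffine U.left› (LocP.locP_of_repWith SourceDescent.Scheme.flat
      (repWith_mono hξ fun _ _ g (_ : Etale g) ↦ (inferInstance : Flat g)))
  -- the generic fibre of the chart
  obtain ⟨m, hm⟩ := (yon S).map_surjective (ξ ≫ f)
  haveI : Smooth m.left := hf ξ (𝟙 _) m hξ (repWith_of_isIso @Etale _)
    (by rw [Category.comp_id]; exact hm.symm)
  let G := genMap K str
  have sqT := IsPullback.of_hasPullback m G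
  let pr := pullback.fst m G
  let sn := pullback.snd m G
  have hw : ((yon S).map pr ≫ ξ) ≫ f = (yon S).map sn ≫ (yon S).map G := by
    rw [Category.assoc, ← hm, ← Functor.map_comp, ← Functor.map_comp, sqT.w]
  obtain ⟨ξK, hξK₁, hξK₂⟩ : ∃ ξK, ξK ≫ gK = (yon S).map pr ≫ ξ ∧ ξK ≫ fK = (yon S).map sn :=
    ⟨hXK.lift _ _ hw, hXK.lift_fst _ _ _, hXK.lift_snd _ _ _⟩
  have sqξ : IsPullback ((yon S).map pr) ξK ξ gK := by
    refine IsPullback.of_bot ?_ hξK₁.symm hXK
    rw [hξK₂, ← hm]
    exact isPullback_yon sqT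
  have hξK : RepWith @Etale ξK := repWith_baseChange sqξ hξ
  obtain ⟨J, hJ⟩ := exists_cut hD.1 ξK
  have hJE : BlowUp.IsEffCartierIdeal J := AlgSpDiv.isEffCartier_of_cut hXKs hD hξK hJ
  haveI := AlgSpDiv.mono_of_closed hD.1
  obtain ⟨fst, sqD⟩ := hJ.isPullback
  have sqA : IsPullback fst ((yon S).map (subι J ≫ pr)) (i ≫ gK) ξ := by
    rw [Functor.map_comp]
    exact sqD.paste_vert sqξ.flip
  rw [kerAt_eq_ker sqA, Over.comp_left, ← Scheme.IdealSheafData.map_ker, ker_subι]
  exact isEffCartier_map_pullback K m.left (sqT.map (Over.forget S)) hJE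

end Groth.Agent.Lib.AlgSpDivExt
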