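import Groth.Agent.Lib.AlgSpDivExt.Local

/-!
# The saturation of an invertible ideal of the generic fibre is locally principal

For a smooth algebra over a valuation ring, at every prime.
-/

set_option autoImplicit false
set_option linter.style.haveILetI false

universe u

open IsLocalRing Groth.Agent.Lib

namespace Groth.Agent.Lib.AlgSpDivExt

variable {R : Type u} [CommRing R] [IsDomain R] [ValuationRing R]

theorem valuationRing_localization (q : Ideal R) [q.IsPrime] :
    haveI : IsDomain (Localization.AtPrime q) :=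
      IsLocalization.isDomain_localization q.primeCompl_le_nonZeroDivisors
    ValuationRing (Localization.AtPrime q) := by
  haveI : IsDomain (Localization.AtPrime q) :=
    IsLocalization.isDomain_localization q.primeCompl_le_nonZeroDivisors
  refine ValuationRing.iff_dvd_total.2 ⟨fun x y => ?_⟩
  obtain ⟨⟨a, s⟩, rfl⟩ := IsLocalization.mk'_surjective q.primeCompl x
  obtain ⟨⟨b, t⟩, rfl⟩ := IsLocalization.mk'_surjective q.primeCompl y
  have h1 : ∀ a s, IsLocalization.mk' (Localization.AtPrime q) a (s : q.primeCompl) ∣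
      algebraMap R (Localization.AtPrime q) a :=
    fun a s => ⟨algebraMap R _ (s : R), (IsLocalization.mk'_spec _ a s).symm⟩
  have h2 : ∀ a s, algebraMap R (Localization.AtPrime q) a ∣
      IsLocalization.mk' (Localization.AtPrime q) a (s : q.primeCompl) :=
    fun a s => ⟨_, IsLocalization.mk'_eq_mul_mk'_one a s⟩
  rcases ValuationRing.dvd_total a b with h | h
  · exact Or.inl ((h1 a s).trans ((map_dvd _ h).trans (h2 b t)))
  · exact Or.inr ((h1 b t).trans ((map_dvd _ h).trans (h2 a s)))

/-- Ideals of a finite type algebra over a valuation ring with torsion-free quotient are finitely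
generated. -/
theorem fg_of_saturated {B : Type u} [CommRing B] [Algebra R B] [Algebra.FiniteType R B]
    (I : Ideal B) (hI : ∀ (r : R) (x : B), r ≠ 0 → r • x ∈ I → x ∈ I) : I.FG := by
  classical
  obtain ⟨n, π, hπ⟩ :=
    Algebra.FiniteType.iff_quotient_mvPolynomial''.mp (inferInstance : Algebra.FiniteType R B)
  let P := MvPolynomial (Fin n) R
  let N : Submodule P (Unit → P) :=
    { carrier := {v | π (v ()) ∈ I}
      add_mem' := fun {v w} hv hw => by
        show π (v () + w ()) ∈ I
        rw [map_add]; exact add_mem hv hw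
      zero_mem' := by
        show π 0 ∈ I
        rw [map_zero]; exact zero_mem _
      smul_mem' := fun c v hv => by
        show π (c * v ()) ∈ I
        rw [map_mul]; exact Ideal.mul_mem_left _ _ hv }
  obtain ⟨G, hG⟩ : N.FG := Groth.Agent.H20.ValFP.fg_of_saturated N fun a v ha hav => by
    show π (v ()) ∈ I
    refine hI a _ ha ?_
    have : π ((a • v) ()) ∈ I := hav
    rwa [Pi.smul_apply, map_smul] at this
  refine ⟨G.image fun v => π (v ()), le_antisymm ?_ fun x hx => ?_⟩
  · rw [Submodule.span_le]
    intro y hy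
    obtain ⟨v, hv, rfl⟩ := Finset.mem_image.1 hy
    exact (hG ▸ Submodule.subset_span hv : v ∈ N)
  · obtain ⟨f, rfl⟩ := hπ x
    have hf : (fun _ => f) ∈ Submodule.span P (G : Set (Unit → P)) := hG.symm ▸ hx
    have key : ∀ v ∈ Submodule.span P (G : Set (Unit → P)),
        π (v ()) ∈ Submodule.span B ((G.image fun v => π (v ()) : Finset B) : Set B) := by
      intro v hv
      induction hv using Submodule.span_induction with
      | mem v hv => exact Submodule.subset_span (Finset.mem_image_of_mem _ hv)
      | zero => simp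
      | add v w _ _ hv hw => rw [Pi.add_apply, map_add]; exact add_mem hv hw
      | smul c v _ hv =>
        rw [Pi.smul_apply, smul_eq_mul, map_mul]
        exact Submodule.smul_mem _ (π c) hv
    exact key _ hf

variable {B : Type u} [CommRing B] [Algebra R B] [Algebra.Smooth R B]

/-- Near every prime the saturation of an invertible ideal of the generic fibre is generated by a
nonzerodivisor. -/
theorem exists_local_generator (BK : Type u) [CommRing BK] [Algebra B BK]
    [IsLocalization (Algebra.algebraMapSubmonoid B (nonZeroDivisors R)) BK] [IsNoetherianRing BK]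
    (J : Ideal BK)
    (hJ : ∀ (P : Ideal BK) [P.IsPrime],
      (J.map (algebraMap BK (Localization.AtPrime P))).IsPrincipal ∧
        J.map (algebraMap BK (Localization.AtPrime P)) ≠ ⊥)
    (p : Ideal B) [p.IsPrime] :
    ∃ h ∉ p, ∃ f ∈ J.comap (algebraMap B BK),
      (∀ x ∈ J.comap (algebraMap B BK), h * x ∈ Ideal.span {f}) ∧ ∀ x, f * x = 0 → h * x = 0 := by
  classical
  -- localize the base
  let q := p.comap (algebraMap R B)
  haveI : q.IsPrime := Ideal.IsPrime.comap _
  let R' := Localization.AtPrime q
  haveI : IsDomain R' := IsLocalization.isDomain_localization q.primeCompl_le_nonZeroDivisors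
  haveI : ValuationRing R' := valuationRing_localization q
  let Mq := Algebra.algebraMapSubmonoid B q.primeCompl
  let B' := Localization Mq
  letI : Algebra R' B' := localizationAlgebra q.primeCompl B
  haveI : IsScalarTower R R' B' := IsScalarTower.of_algebraMap_eq' (by
    rw [RingHom.algebraMap_toAlgebra, IsLocalization.map_comp, IsScalarTower.algebraMap_eq R B B'])
  haveI : Algebra.IsPushout R R' B B' :=
    (Algebra.isPushout_of_isLocalization q.primeCompl R' B B').symm
  haveI : Algebra.Smooth R' B' :=
    Algebra.Smooth.of_equiv (Algebra.IsPushout.equiv R R' B B')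
  let p' := p.map (algebraMap B B')
  have hdisj : Disjoint (Mq : Set B) (p : Set B) := by
    rw [Set.disjoint_left]
    rintro _ ⟨y, hy, rfl⟩ h
    exact hy h
  haveI : p'.IsPrime := IsLocalization.isPrime_of_isPrime_disjoint Mq B' p ‹_› hdisj
  have hup : p'.comap (algebraMap B B') = p :=
    IsLocalization.under_map_of_isPrime_disjoint Mq B' ‹_› hdisj
  have hp' : p'.comap (algebraMap R' B') = maximalIdeal R' := by
    haveI : (p'.comap (algebraMap R' B')).IsPrime := Ideal.IsPrime.comap _
    refine le_antisymm (le_maximalIdeal (Ideal.IsPrime.ne_top ‹_›)) ?_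
    rw [← IsLocalization.AtPrime.map_eq_maximalIdeal q R', Ideal.map_le_iff_le_comap]
    intro r hr
    show algebraMap R' B' (algebraMap R R' r) ∈ p'
    rw [← IsScalarTower.algebraMap_apply, IsScalarTower.algebraMap_apply R B B']
    exact Ideal.mem_map_of_mem _ hr
  let A := Localization.AtPrime p'
  haveI hA' : IsLocalization.AtPrime A (p'.comap (algebraMap B B')) :=
    IsLocalization.isLocalization_isLocalization_atPrime_isLocalization Mq A p'
  haveI : IsLocalization p.primeCompl A := by
    convert hA' using 2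
    exact hup.symm
  -- the generic fibre of the local ring
  let MR := Algebra.algebraMapSubmonoid B (nonZeroDivisors R)
  let W : Submonoid B := p.primeCompl ⊔ MR
  let AK := Localization W
  letI : Algebra A AK := IsLocalization.localizationAlgebraOfSubmonoidLe A AK p.primeCompl W le_sup_left
  haveI : IsScalarTower B A AK :=
    IsLocalization.localization_isScalarTower_of_submonoid_le A AK p.primeCompl W le_sup_left
  letI : Algebra BK AK := IsLocalization.localizationAlgebraOfSubmonoidLe BK AK MR W le_sup_right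
  haveI : IsScalarTower B BK AK :=
    IsLocalization.localization_isScalarTower_of_submonoid_le BK AK MR W le_sup_right
  haveI hAK₁ : IsLocalization (W.map (algebraMap B BK)) AK :=
    IsLocalization.isLocalization_of_submonoid_le BK AK MR W le_sup_right
  haveI : IsNoetherianRing AK :=
    IsLocalization.isNoetherianRing (W.map (algebraMap B BK)) AK ‹_›
  haveI hAK₂ : IsLocalization (W.map (algebraMap B A)) AK :=
    IsLocalization.isLocalization_of_submonoid_le A AK p.primeCompl W le_sup_left
  let T := Algebra.algebraMapSubmonoid A (nonZeroDivisors R')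
  have hRR' : ∀ r ∈ nonZeroDivisors R, algebraMap R R' r ∈ nonZeroDivisors R' := fun r hr =>
    mem_nonZeroDivisors_of_ne_zero fun h => nonZeroDivisors.ne_zero hr
      (IsLocalization.injective R' q.primeCompl_le_nonZeroDivisors (h.trans (map_zero _).symm))
  haveI : IsLocalization T AK := by
    let W' := W.map (algebraMap B A) ⊔ T
    haveI : IsLocalization W' AK := by
      refine IsLocalization.of_le_of_exists_dvd (W.map (algebraMap B A)) W' le_sup_left fun n hn => ?_
      obtain ⟨w, hw, _, ⟨r', hr', rfl⟩, rfl⟩ := Submonoid.mem_sup.1 hn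
      obtain ⟨⟨r, s⟩, rfl⟩ := IsLocalization.mk'_surjective q.primeCompl r'
      have hr : r ∈ nonZeroDivisors R := mem_nonZeroDivisors_of_ne_zero fun h =>
        nonZeroDivisors.ne_zero hr' (by simp only [h, IsLocalization.mk'_zero])
      refine ⟨w * algebraMap B A (algebraMap R B r),
        mul_mem hw ⟨_, (le_sup_right : MR ≤ W) ⟨r, hr, rfl⟩, rfl⟩, mul_dvd_mul_left _ ?_⟩
      refine ⟨algebraMap R' A (algebraMap R R' s), ?_⟩
      rw [← map_mul, IsLocalization.mk'_spec, ← IsScalarTower.algebraMap_apply R R' A,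
        IsScalarTower.algebraMap_apply R B A]
    refine (IsLocalization.iff_of_le_of_exists_dvd T W' le_sup_right fun n hn => ?_).2 ‹_›
    obtain ⟨_, ⟨w, hw, rfl⟩, t, ht, rfl⟩ := Submonoid.mem_sup.1 hn
    obtain ⟨v, hv, _, ⟨r, hr, rfl⟩, rfl⟩ := Submonoid.mem_sup.1 hw
    obtain ⟨z, hz⟩ := IsLocalization.map_units A (⟨v, hv⟩ : p.primeCompl)
    refine ⟨algebraMap R' A (algebraMap R R' r) * t,
      mul_mem ⟨_, hRR' r hr, rfl⟩ ht, mul_dvd_mul_right ?_ _⟩
    rw [map_mul, ← hz, ← IsScalarTower.algebraMap_apply R R' A, IsScalarTower.algebraMap_apply R B A]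
    exact ⟨((z⁻¹ : Aˣ) : A), by rw [mul_right_comm, Units.mul_inv, one_mul]⟩
  let JA := J.map (algebraMap BK AK)
  haveI : IsDomain A := isDomain_atPrime p' R'
  haveI : Module.Flat R' B' := Algebra.Smooth.flat R' B'
  haveI : Module.Flat B' A := IsLocalization.flat A p'.primeCompl
  haveI : Module.Flat R' A := Module.Flat.trans R' B' A
  have hT : T ≤ nonZeroDivisors A := by
    rintro _ ⟨r, hr, rfl⟩
    refine mem_nonZeroDivisors_of_ne_zero fun h => ?_
    exact one_ne_zero (eq_zero_of_smul_eq_zero (M := A) (nonZeroDivisors.ne_zero hr)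
      (show r • (1 : A) = 0 by rw [Algebra.smul_def, h, zero_mul]))
  haveI : IsDomain AK := IsLocalization.isDomain_of_le_nonZeroDivisors AK hT
  have hJA : JA ≠ ⊥ := by
    intro h0
    let P := RingHom.ker (algebraMap BK AK)
    haveI : P.IsPrime := RingHom.ker_isPrime _
    refine (hJ P).2 ((Ideal.map_eq_bot_iff_le_ker _).2 fun x hx => ?_)
    have h1 : algebraMap BK AK x = 0 := by
      rw [← Ideal.mem_bot, ← h0]; exact Ideal.mem_map_of_mem _ hx
    obtain ⟨⟨m, hm⟩, hmx⟩ := (IsLocalization.map_eq_zero_iff (W.map (algebraMap B BK)) AK x).1 h1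
    have hmP : m ∉ P := fun h => (IsLocalization.map_units AK (⟨m, hm⟩ : W.map (algebraMap B BK))).ne_zero h
    rw [RingHom.mem_ker, IsLocalization.map_eq_zero_iff P.primeCompl]
    exact ⟨⟨m, hmP⟩, hmx⟩
  have hloc : ∀ (I : Ideal AK) [I.IsPrime],
      (JA.map (algebraMap AK (Localization.AtPrime I))).IsPrincipal := by
    intro I _
    let P := I.comap (algebraMap BK AK)
    haveI : P.IsPrime := Ideal.IsPrime.comap _
    have e : (algebraMap AK (Localization.AtPrime I)).comp (algebraMap BK AK) =
        (Localization.localRingHom P I (algebraMap BK AK) rfl).comp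
          (algebraMap BK (Localization.AtPrime P)) :=
      RingHom.ext fun x => (Localization.localRingHom_to_map P I (algebraMap BK AK) rfl x).symm
    obtain ⟨c, hc⟩ := (hJ P).1.principal
    rw [Ideal.map_map, e, ← Ideal.map_map, hc]
    exact ⟨⟨Localization.localRingHom P I (algebraMap BK AK) rfl c, by
      show Ideal.map _ (Ideal.span {c}) = Ideal.span {_}
      rw [Ideal.map_span, Set.image_singleton]⟩⟩
  obtain ⟨g, hg0, hg⟩ := exists_generator p' hp' AK JA hJA hloc
  -- back to the algebra
  let I := J.comap (algebraMap B BK)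
  have hcomm : ∀ x : B, algebraMap A AK (algebraMap B A x) = algebraMap BK AK (algebraMap B BK x) :=
    fun x => by rw [← IsScalarTower.algebraMap_apply, ← IsScalarTower.algebraMap_apply]
  obtain ⟨⟨f₀, s⟩, hf₀⟩ := IsLocalization.surj p.primeCompl g
  obtain ⟨z, hz⟩ := IsLocalization.map_units A s
  have hf₀J : algebraMap A AK (algebraMap B A f₀) ∈ JA := by
    show algebraMap B A f₀ ∈ JA.comap (algebraMap A AK)
    rw [hg, ← hf₀]
    exact Ideal.mem_span_singleton'.2 ⟨algebraMap B A s, mul_comm _ _⟩
  rw [hcomm] at hf₀J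
  obtain ⟨_, ⟨w, hw, rfl⟩, hwf⟩ :=
    (IsLocalization.algebraMap_mem_map_algebraMap_iff (W.map (algebraMap B BK)) AK J _).1 hf₀J
  obtain ⟨v, hv, _, ⟨r, hr, rfl⟩, rfl⟩ := Submonoid.mem_sup.1 hw
  have hfI : v * f₀ ∈ I := by
    show algebraMap B BK (v * f₀) ∈ J
    obtain ⟨y, hy⟩ := IsLocalization.map_units BK (⟨_, r, hr, rfl⟩ : MR)
    have h2 := J.mul_mem_left ((y⁻¹ : BKˣ) : BK) hwf
    rw [map_mul, ← hy, mul_comm (algebraMap B BK v) (y : BK), mul_assoc, Units.inv_mul_cancel_left]
      at h2
    rwa [map_mul]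
  let f := v * f₀
  have hspan : Ideal.span {algebraMap B A f} = Ideal.span {g} := by
    obtain ⟨y, hy⟩ := IsLocalization.map_units A (⟨v, hv⟩ : p.primeCompl)
    rw [map_mul, ← hf₀, ← hy, ← hz, Ideal.span_singleton_mul_left_unit y.isUnit,
      Ideal.span_singleton_mul_right_unit z.isUnit]
  have hrI : ∀ (a : R) (x : B), a ≠ 0 → a • x ∈ I → x ∈ I := fun a x ha hx => by
    obtain ⟨y, hy⟩ :=
      IsLocalization.map_units BK (⟨_, a, mem_nonZeroDivisors_of_ne_zero ha, rfl⟩ : MR)
    have h2 : algebraMap B BK (a • x) ∈ J := hx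
    rw [Algebra.smul_def, map_mul, ← hy] at h2
    show algebraMap B BK x ∈ J
    simpa using J.mul_mem_left ((y⁻¹ : BKˣ) : BK) h2
  haveI : Module.Flat R B := Algebra.Smooth.flat R B
  -- one element working for all members of a finitely generated ideal
  have hfin : ∀ (K : Ideal B) (P : B → Prop), K.FG → (∀ x ∈ K, ∃ h ∉ p, P (h * x)) →
      (∀ a b, P a → P b → P (a + b)) → P 0 → (∀ c a, P a → P (c * a)) →
      ∃ h ∉ p, ∀ x ∈ K, P (h * x) := by
    rintro K P ⟨t, rfl⟩ hK hadd h0 hmul
    choose H hH hPH using fun x : t => hK x.1 (Submodule.subset_span x.2)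
    refine ⟨∏ x : t, H x, fun h => ?_, fun x hx => ?_⟩
    · obtain ⟨i, -, hi⟩ := Ideal.IsPrime.prod_mem_iff.1 h
      exact hH i hi
    · induction hx using Submodule.span_induction with
      | mem x hx =>
        obtain ⟨d, hd⟩ := Finset.dvd_prod_of_mem H (Finset.mem_univ (⟨x, hx⟩ : t))
        rw [hd, mul_comm (H _) d, mul_assoc]
        exact hmul _ _ (hPH _)
      | zero => rw [mul_zero]; exact h0
      | add a b _ _ ha hb => rw [mul_add]; exact hadd _ _ ha hb
      | smul c a _ ha => rw [smul_eq_mul, mul_left_comm]; exact hmul _ _ ha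
  obtain ⟨h₁, hh₁, hH₁⟩ := hfin I (fun y => y ∈ Ideal.span {f}) (fg_of_saturated I hrI)
    (fun x hx => by
      have h1 : algebraMap B A x ∈ (Ideal.span {f}).map (algebraMap B A) := by
        rw [Ideal.map_span, Set.image_singleton, hspan, ← hg, Ideal.mem_comap, hcomm]
        exact Ideal.mem_map_of_mem _ hx
      exact (IsLocalization.algebraMap_mem_map_algebraMap_iff p.primeCompl A _ x).1 h1)
    (fun _ _ => add_mem) (zero_mem _) (fun c _ => Ideal.mul_mem_left _ c)
  let N : Ideal B := LinearMap.ker (LinearMap.mulLeft B f)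
  obtain ⟨h₂, hh₂, hH₂⟩ := hfin N (fun y => y = 0)
    (fg_of_saturated N fun a x ha hx => by
      show f * x = 0
      refine eq_zero_of_smul_eq_zero (R := R) (M := B) ha ?_
      rw [← mul_smul_comm]
      exact hx)
    (fun x hx => by
      have h1 : algebraMap B A f * algebraMap B A x = 0 := by
        rw [← map_mul, show f * x = 0 from hx, map_zero]
      have hne : algebraMap B A f ≠ 0 := fun h => hg0 (by
        rw [← Ideal.span_singleton_eq_bot, ← hspan, h, Ideal.span_singleton_eq_bot])
      obtain ⟨⟨m, hm⟩, hmx⟩ := (IsLocalization.map_eq_zero_iff p.primeCompl A x).1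
        ((mul_eq_zero.1 h1).resolve_left hne)
      exact ⟨m, hm, hmx⟩)
    (fun a b ha hb => by rw [ha, hb, add_zero]) rfl (fun c a ha => by rw [ha, mul_zero])
  refine ⟨h₁ * h₂, fun h => (Ideal.IsPrime.mem_or_mem ‹p.IsPrime› h).elim hh₁ hh₂, f, hfI,
    fun x hx => ?_, fun x hx => ?_⟩
  · rw [mul_right_comm]
    exact Ideal.mul_mem_right _ _ (hH₁ x hx)
  · rw [mul_assoc, hH₂ x hx, mul_zero]

end Groth.Agent.Lib.AlgSpDivExt
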